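import Cfsg.Agent.H46.J4Out.Core

/-!
Row vectors of length 112 over the field with two elements: the action of the presented group `J4`
through its matrices, and size bounds for kernels from packed certificates.
-/

set_option autoImplicit false
set_option maxRecDepth 100000

namespace Cfsg.Agent.H45.J4Inv

open Matrix Cfsg.Agent.H45 Cfsg.Agent.H45.J4Mat Cfsg.Agent.H45.J4Rep Cfsg.Agent.H46.J4Out

/-- row vectors -/
abbrev Vec : Type := Fin 112 → ZMod 2

/-- packed matrices -/
abbrev Mx : Type := Matrix (Fin 112) (Fin 112) (ZMod 2)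

/-- the vector of a packed number -/
def toVec (n : ℕ) : Vec := fun j => bz (n.testBit j)

/-- the truncated identity -/
def projM (f : ℕ) : Mx := toMat 112 (oneN 112 f)

theorem toMat_xor (A B : ℕ) : toMat 112 (A ^^^ B) = toMat 112 A + toMat 112 B := by
  ext i j
  simp [toMat, Nat.testBit_xor, bz_xor]

theorem toVec_mulN (v M : ℕ) : toVec (mulN 112 v M) = toVec v ᵥ* toMat 112 M := by
  have h := toMat_mulN 112 v M
  funext j
  have h2 := congrFun (congrFun h ⟨0, by norm_num⟩) j
  rw [Matrix.mul_apply] at h2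
  simp only [toMat, toVec, Matrix.vecMul, dotProduct, Nat.mul_zero, Nat.zero_add] at h2 ⊢
  exact h2

theorem toVec_inj {a b : ℕ} (ha : a < 2 ^ 112) (hb : b < 2 ^ 112) (h : toVec a = toVec b) :
    a = b := by
  apply Nat.eq_of_testBit_eq
  intro i
  rcases Nat.lt_or_ge i 112 with hi | hi
  · have h2 := congrFun h ⟨i, hi⟩
    simp only [toVec] at h2
    revert h2
    cases a.testBit i <;> cases b.testBit i <;> simp [bz]
  · have hp : 2 ^ 112 ≤ 2 ^ i := Nat.pow_le_pow_right (by norm_num) hi
    rw [Nat.testBit_lt_two_pow (lt_of_lt_of_le ha hp), Nat.testBit_lt_two_pow (lt_of_lt_of_le hb hp)]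

theorem projM_apply (f : ℕ) (hf : f ≤ 112) (u : Vec) (j : Fin 112) :
    (u ᵥ* projM f) j = if (j : ℕ) < f then u j else 0 := by
  have hentry : ∀ i : Fin 112, projM f i j = if i = j ∧ (j : ℕ) < f then 1 else 0 := by
    intro i
    show bz ((oneN 112 f).testBit (112 * i + j)) = _
    rw [testBit_oneN]
    by_cases h : i = j ∧ (j : ℕ) < f
    · obtain ⟨rfl, h2⟩ := h
      rw [if_pos ⟨rfl, h2⟩, decide_eq_true ⟨(i : ℕ), h2, by omega⟩]
      rfl
    · rw [if_neg h, decide_eq_false]
      · rfl
      · rintro ⟨k, hk, he⟩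
        have hij : (i : ℕ) = k ∧ (j : ℕ) = k := by
          have hi := i.isLt; have hj := j.isLt
          omega
        exact h ⟨Fin.ext (hij.1.trans hij.2.symm), hij.2 ▸ hk⟩
  simp only [Matrix.vecMul, dotProduct, hentry]
  by_cases hj : (j : ℕ) < f <;> simp [hj]

/-- vectors supported on the first `f` coordinates -/
theorem card_projM (f : ℕ) (hf : f ≤ 112) :
    Nat.card {u : Vec // u ᵥ* projM f = u} = 2 ^ f := by
  have h : Nat.card {u : Vec // u ᵥ* projM f = u} = Nat.card (Fin f → ZMod 2) := by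
    refine Nat.card_congr
      { toFun := fun u i => u.1 ⟨i, by omega⟩
        invFun := fun a => ⟨fun j => if hj : (j : ℕ) < f then a ⟨j, hj⟩ else 0, ?_⟩
        left_inv := ?_
        right_inv := ?_ }
    · funext j
      rw [projM_apply f hf]
      by_cases hj : (j : ℕ) < f <;> simp [hj]
    · rintro ⟨u, hu⟩
      apply Subtype.ext
      funext j
      have h2 := congrFun hu j
      rw [projM_apply f hf] at h2
      by_cases hj : (j : ℕ) < f
      · simp [hj]
      · simp only [dif_neg hj]; rw [if_neg hj] at h2; exact h2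
    · intro a; funext i; simp
  rw [h, Nat.card_fun, Nat.card_eq_fintype_card, ZMod.card, Nat.card_eq_fintype_card,
    Fintype.card_fin]

/-- the kernel of `M` has at most `2 ^ f` vectors -/
theorem card_ker_le {M X Fl Fr : Mx} {f : ℕ} (hf : f ≤ 112) (h : M * X = 1 + Fl * Fr)
    (hl : Fl * projM f = Fl) : Nat.card {v : Vec // v ᵥ* M = 0} ≤ 2 ^ f := by
  rw [← card_projM f hf]
  refine Nat.card_le_card_of_injective
    (fun v => (⟨v.1 ᵥ* Fl, by rw [Matrix.vecMul_vecMul, hl]⟩ :
      {u : Vec // u ᵥ* projM f = u})) ?_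
  have hv : ∀ v : {v : Vec // v ᵥ* M = 0}, v.1 = v.1 ᵥ* Fl ᵥ* Fr := by
    intro v
    have h2 := congrArg (fun A : Mx => v.1 ᵥ* A) h
    simp only [← Matrix.vecMul_vecMul, v.2, Matrix.zero_vecMul, Matrix.vecMul_add,
      Matrix.vecMul_one] at h2
    calc v.1 = v.1 + (v.1 + v.1 ᵥ* Fl ᵥ* Fr) := by rw [← h2, add_zero]
      _ = v.1 ᵥ* Fl ᵥ* Fr := by
        rw [← add_assoc, show v.1 + v.1 = 0 from funext fun j => CharTwo.add_self_eq_zero _,
          zero_add]
  intro u v huv
  have huv' : u.1 ᵥ* Fl = v.1 ᵥ* Fl := Subtype.mk.inj huv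
  apply Subtype.ext
  calc u.1 = u.1 ᵥ* Fl ᵥ* Fr := hv u
    _ = v.1 ᵥ* Fl ᵥ* Fr := by rw [huv']
    _ = v.1 := (hv v).symm

/-- the row space of `M`, given by a basis certificate, has `2 ^ k` vectors -/
theorem card_range {M L B R T : Mx} {k : ℕ} (hk : k ≤ 112) (hB : R * M = B) (hL : L * B = M)
    (hT : B * T = projM k) (hLE : L * projM k = L) :
    Nat.card (Set.range fun v : Vec => v ᵥ* M) = 2 ^ k := by
  rw [← card_projM k hk]
  refine (Nat.card_eq_of_bijective
    (fun u : {u : Vec // u ᵥ* projM k = u} =>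
      (⟨u.1 ᵥ* B, u.1 ᵥ* R, by simp only [Matrix.vecMul_vecMul, hB]⟩ :
        Set.range fun v : Vec => v ᵥ* M)) ⟨?_, ?_⟩).symm
  · intro u v h
    have h2 := congrArg (fun w : Vec => w ᵥ* T) (congrArg Subtype.val h)
    simp only [Matrix.vecMul_vecMul, hT, u.2, v.2] at h2
    exact Subtype.ext h2
  · rintro ⟨w, v, rfl⟩
    refine ⟨⟨v ᵥ* L, by rw [Matrix.vecMul_vecMul, hLE]⟩, ?_⟩
    apply Subtype.ext
    simp only [Matrix.vecMul_vecMul, hL]

/-- the image of a vector under a group element -/
noncomputable def act (v : Vec) (g : J) : Vec := v ᵥ* ((rho g : GL112) : Mx)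

theorem act_mul (v : Vec) (g h : J) : act v (g * h) = act (act v g) h := by
  simp only [act, map_mul, Units.val_mul, Matrix.vecMul_vecMul]

theorem act_one (v : Vec) : act v 1 = v := by
  simp only [act, map_one, Units.val_one, Matrix.vecMul_one]

theorem act_inv_cancel (v : Vec) (g : J) : act (act v g) g⁻¹ = v := by
  rw [← act_mul, mul_inv_cancel, act_one]

theorem act_cancel_inv (v : Vec) (g : J) : act (act v g⁻¹) g = v := by
  rw [← act_mul, inv_mul_cancel, act_one]

theorem act_injective (g : J) : Function.Injective fun v => act v g := fun u v h => by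
  have h2 := congrArg (fun w => act w g⁻¹) h
  simpa only [act_inv_cancel] using h2

theorem act_add (u v : Vec) (g : J) : act (u + v) g = act u g + act v g :=
  Matrix.add_vecMul _ _ _

theorem act_zero (g : J) : act 0 g = 0 := Matrix.zero_vecMul _

theorem act_toVec {g : J} {M : ℕ} (hg : R g M) (v : ℕ) :
    act (toVec v) g = toVec (mulN 112 v M) := by
  rw [act, hg, toVec_mulN]

theorem act_eq {g : J} {M : ℕ} (hg : R g M) (v : Vec) : act v g = v ᵥ* toMat 112 M := by
  rw [act, hg]

theorem mem_stab_pow {v : Vec} {g : J} (h : act v g = v) : ∀ k : ℕ, act v (g ^ k) = v := by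
  intro k
  induction k with
  | zero => rw [pow_zero, act_one]
  | succ k ih => rw [pow_succ, act_mul, ih, h]

/-- the stabiliser of a vector -/
noncomputable def stab (v : Vec) : Subgroup J where
  carrier := {g | act v g = v}
  mul_mem' {a b} ha hb := by
    change act v (a * b) = v
    rw [act_mul, ha, hb]
  one_mem' := act_one v
  inv_mem' {a} ha := by
    change act v a⁻¹ = v
    nth_rewrite 1 [← (ha : act v a = v)]
    exact act_inv_cancel v a

theorem mem_stab {v : Vec} {g : J} : g ∈ stab v ↔ act v g = v := Iff.rfl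

/-- the number of fixed vectors -/
noncomputable def fixCard (g : J) : ℕ := Nat.card {v : Vec // act v g = v}

/-- number of fixed vectors from a certificate -/
theorem fixCard_le {g : J} {A X Fl Fr f : ℕ} (hf : f ≤ 112) (hg : R g A)
    (h : Nat.beq (mulN 112 (A ^^^ oneN 112 112) X) (oneN 112 112 ^^^ mulN 112 Fl Fr) = true)
    (hl : Nat.beq (mulN 112 Fl (oneN 112 f)) Fl = true) : fixCard g ≤ 2 ^ f := by
  have h1 : (toMat 112 A + 1) * toMat 112 X = 1 + toMat 112 Fl * toMat 112 Fr := by
    rw [← toMat_oneN, ← toMat_xor, ← toMat_mulN, ← toMat_mulN, Nat.eq_of_beq_eq_true h, toMat_xor]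
  have h2 : toMat 112 Fl * projM f = toMat 112 Fl := by
    rw [projM, ← toMat_mulN, Nat.eq_of_beq_eq_true hl]
  refine le_trans (le_of_eq (Nat.card_congr (Equiv.subtypeEquivRight fun v => ?_)))
    (card_ker_le hf h1 h2)
  rw [act_eq hg, Matrix.vecMul_add, Matrix.vecMul_one]
  constructor
  · intro h; rw [h]; exact funext fun j => CharTwo.add_self_eq_zero _
  · intro h
    have h3 : ∀ a b : ZMod 2, a + b = 0 → a = b := by decide
    exact funext fun j => h3 _ _ (congrFun h j)

theorem fixCard_conj (g a : J) : fixCard (g * a * g⁻¹) = fixCard a := by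
  refine Nat.card_congr
    { toFun := fun v => ⟨act v.1 g, ?_⟩
      invFun := fun v => ⟨act v.1 g⁻¹, ?_⟩
      left_inv := fun v => Subtype.ext (act_inv_cancel _ _)
      right_inv := fun v => Subtype.ext (act_cancel_inv _ _) }
  · have h := congrArg (fun w => act w g) v.2
    simp only [← act_mul, mul_assoc, inv_mul_cancel, mul_one] at h
    rw [← act_mul]; exact h
  · change act (act v.1 g⁻¹) (g * a * g⁻¹) = _
    rw [← act_mul, mul_assoc g, inv_mul_cancel_left, act_mul, v.2]

theorem fixCard_le_pow (a : J) (k : ℕ) : fixCard a ≤ fixCard (a ^ k) :=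
  by
  unfold fixCard
  refine Nat.card_le_card_of_injective
    (fun v : {v : Vec // act v a = v} =>
      (⟨v.1, mem_stab_pow v.2 k⟩ : {w : Vec // act w (a ^ k) = w})) ?_
  intro u v h
  exact Subtype.ext (Subtype.mk.inj h)

theorem fixCard_pow {a : J} {p k : ℕ} (hp : p.Prime) (hap : a ^ p = 1) (hk : ¬ p ∣ k) :
    fixCard (a ^ k) = fixCard a := by
  refine le_antisymm ?_ (fixCard_le_pow a k)
  obtain ⟨m, hm⟩ : ∃ m, (a ^ k) ^ m = a := by
    obtain ⟨m, -, hm⟩ := Nat.exists_mul_mod_eq_one_of_coprime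
      ((Nat.coprime_comm.1 (hp.coprime_iff_not_dvd.2 hk))) hp.one_lt
    exact ⟨m, by rw [← pow_mul, pow_eq_pow_mod _ hap, hm, pow_one]⟩
  calc fixCard (a ^ k) ≤ fixCard ((a ^ k) ^ m) := fixCard_le_pow _ _
    _ = fixCard a := by rw [hm]

theorem fixCard_one : fixCard 1 = 2 ^ 112 := by
  rw [fixCard, Nat.card_congr (Equiv.subtypeUnivEquiv act_one), Nat.card_fun,
    Nat.card_eq_fintype_card, ZMod.card, Nat.card_eq_fintype_card, Fintype.card_fin]

end Cfsg.Agent.H45.J4Inv
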