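import Cfsg.Agent.H45.J4Inv.Ext
import Cfsg.Agent.H45.J4Inv.Lin
import Cfsg.Agent.Golay.M22SmallIndex

/-!
The action on the 77 vectors: the groups of hexad permutations, `M22` and the outer element.
-/

set_option autoImplicit false
set_option maxRecDepth 100000

namespace Cfsg.Agent.H45.J4Inv

open Cfsg Cfsg.Agent.H45 Cfsg.Agent.H45.J4Rep Cfsg.Agent.H45.J4Mat Cfsg.Agent.H46.J4Out
open Cfsg.Agent.Golay Cfsg.Agent.H44

/-- the vectors, packed -/
def oN (i : Fin 77) : ℕ := orbL.getD i.1 0

/-- the vectors -/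
def oVec (i : Fin 77) : Vec := toVec (oN i)

theorem oN_checks : ((List.range 77).all fun i => Nat.blt (orbL.getD i 0) (2 ^ 112) &&
    ((List.range 77).all fun j => Nat.beq i j || !Nat.beq (orbL.getD i 0) (orbL.getD j 0))) = true := by
  decide +kernel

theorem oVec_inj : Function.Injective oVec := by
  intro i j h
  have hi := List.all_eq_true.1 oN_checks i.1 (List.mem_range.2 i.2)
  have hj := List.all_eq_true.1 oN_checks j.1 (List.mem_range.2 j.2)
  simp only [Bool.and_eq_true] at hi hj
  have e := toVec_inj (Nat.le_of_ble_eq_true hi.1) (Nat.le_of_ble_eq_true hj.1) h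
  have h2 := List.all_eq_true.1 hi.2 j.1 (List.mem_range.2 j.2)
  simp only [Bool.or_eq_true, Nat.beq_eq, Bool.not_eq_true'] at h2
  rcases h2 with h2 | h2
  · exact Fin.ext h2
  · rw [show orbL.getD i.1 0 = orbL.getD j.1 0 from e] at h2
    simp at h2

/-- a permutation of the 77 vectors from two lists -/
def perm77 (p q : List ℕ)
    (h : ((List.range 77).all fun i => Nat.beq (q.getD (p.getD i 0) 0) i &&
      Nat.beq (p.getD (q.getD i 0) 0) i && Nat.blt (p.getD i 0) 77 && Nat.blt (q.getD i 0) 77) = true) :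
    Equiv.Perm (Fin 77) where
  toFun i := ⟨p.getD i.1 0, by
    have := List.all_eq_true.1 h i.1 (List.mem_range.2 i.2)
    simp only [Bool.and_eq_true] at this
    exact Nat.le_of_ble_eq_true this.1.2⟩
  invFun i := ⟨q.getD i.1 0, by
    have := List.all_eq_true.1 h i.1 (List.mem_range.2 i.2)
    simp only [Bool.and_eq_true] at this
    exact Nat.le_of_ble_eq_true this.2⟩
  left_inv i := Fin.ext (by
    have := List.all_eq_true.1 h i.1 (List.mem_range.2 i.2)
    simp only [Bool.and_eq_true] at this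
    exact Nat.eq_of_beq_eq_true this.1.1.1)
  right_inv i := Fin.ext (by
    have := List.all_eq_true.1 h i.1 (List.mem_range.2 i.2)
    simp only [Bool.and_eq_true] at this
    exact Nat.eq_of_beq_eq_true this.1.1.2)

/-- action of A -/
def piA : Equiv.Perm (Fin 77) := perm77 permA movA (by decide +kernel)
/-- action of B -/
def piB : Equiv.Perm (Fin 77) := perm77 permB movB (by decide +kernel)
/-- action of O -/
def piO : Equiv.Perm (Fin 77) := perm77 permO movO (by decide +kernel)

/-- elements with the permutations they induce on the vectors -/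
noncomputable def pSub : Subgroup (J × Equiv.Perm (Fin 77)) where
  carrier := {p | ∀ i, act (oVec (p.2 i)) p.1 = oVec i}
  one_mem' i := act_one _
  mul_mem' {p q} hp hq i := by
    change act (oVec (p.2 (q.2 i))) (p.1 * q.1) = oVec i
    rw [act_mul, hp, hq]
  inv_mem' {p} hp i := by
    change act (oVec (p.2⁻¹ i)) p.1⁻¹ = oVec i
    have h := hp (p.2⁻¹ i)
    rw [show p.2 (p.2⁻¹ i) = i from p.2.apply_symm_apply i] at h
    rw [← h, act_inv_cancel]

/-- the right action sends `v (p i)` to `v i` -/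
noncomputable def movOk (M : ℕ) (p : List ℕ) : Bool :=
  (List.range 77).all fun i => Nat.beq (mulN 112 (orbL.getD (p.getD i 0) 0) M) (orbL.getD i 0)

theorem mem_pSub {g : J} {M : ℕ} (hg : R g M) (σ : Equiv.Perm (Fin 77)) (p : List ℕ)
    (hσ : ∀ i : Fin 77, (σ i).1 = p.getD i.1 0) (h : movOk M p = true) : (g, σ) ∈ pSub := by
  intro i
  change act (toVec (orbL.getD (σ i).1 0)) g = toVec (oN i)
  rw [act_toVec hg, hσ i, Nat.eq_of_beq_eq_true (List.all_eq_true.1 h i.1 (List.mem_range.2 i.2))]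
  rfl

theorem pA_mem : (gA, piA) ∈ pSub := mem_pSub r_gA _ permA (fun _ => rfl) (by decide +kernel)
theorem pB_mem : (gB, piB) ∈ pSub := mem_pSub r_gB _ permB (fun _ => rfl) (by decide +kernel)
theorem pO_mem : (gO, piO) ∈ pSub := mem_pSub r_gO _ permO (fun _ => rfl) (by decide +kernel)

theorem fixAll : (movOk zzN (List.range 77) && movOk gkN (List.range 77) &&
    ((List.range 12).all fun k => movOk (qqN k) (List.range 77))) = true := by decide +kernel

theorem range_getD (i : Fin 77) : i.1 = (List.range 77).getD i.1 0 := by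
  simp [List.getD, i.2]

theorem zz_fix : (zz, (1 : Equiv.Perm (Fin 77))) ∈ pSub := by
  have h := fixAll
  simp only [Bool.and_eq_true] at h
  exact mem_pSub r_zz _ _ range_getD h.1.1

theorem gk_fix : (gk, (1 : Equiv.Perm (Fin 77))) ∈ pSub := by
  have h := fixAll
  simp only [Bool.and_eq_true] at h
  exact mem_pSub r_gk _ _ range_getD h.1.2

theorem qq_fix {k : ℕ} (hk : k < 12) : (qq k, (1 : Equiv.Perm (Fin 77))) ∈ pSub := by
  have h := fixAll
  simp only [Bool.and_eq_true] at h
  exact mem_pSub (r_qq k) _ _ range_getD (List.all_eq_true.1 h.2 k (List.mem_range.2 hk))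

theorem qGrp_fix {e : J} (he : e ∈ qGrp) : (e, (1 : Equiv.Perm (Fin 77))) ∈ pSub := by
  induction he using Subgroup.closure_induction with
  | mem x hx =>
    rcases hx with rfl | ⟨k, hk, rfl⟩
    · exact zz_fix
    · exact qq_fix hk
  | one => exact one_mem _
  | mul x y _ _ hx hy => simpa using mul_mem hx hy
  | inv x _ hx => simpa using inv_mem hx

theorem perm_unique {g : J} {σ τ : Equiv.Perm (Fin 77)} (h1 : (g, σ) ∈ pSub) (h2 : (g, τ) ∈ pSub) :
    σ = τ := by
  refine Equiv.ext fun i => oVec_inj (act_injective g ?_)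
  exact (h1 i).trans (h2 i).symm

/-- a permutation of the 24 points from two lists -/
def perm24 (p q : List ℕ) (h : ∀ x : GolayPt, pt (q.getD (idx (pt (p.getD (idx x) 0))) 0) = x ∧
    pt (p.getD (idx (pt (q.getD (idx x) 0))) 0) = x) : Equiv.Perm GolayPt where
  toFun x := pt (p.getD (idx x) 0)
  invFun x := pt (q.getD (idx x) 0)
  left_inv x := (h x).1
  right_inv x := (h x).2

/-- points of A -/
def sA : Equiv.Perm GolayPt := perm24 ptsA iptsA (by decide +kernel)
/-- points of B -/
def sB : Equiv.Perm GolayPt := perm24 ptsB iptsB (by decide +kernel)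
/-- points of O -/
def sO : Equiv.Perm GolayPt := perm24 ptsO iptsO (by decide +kernel)

/-- membership in a hexad -/
def hexB (i : Fin 77) (x : GolayPt) : Bool := (hexL.getD i.1 []).contains (idx x)

/-- pairs of permutations compatible with the hexads -/
def hSub : Subgroup (Equiv.Perm GolayPt × Equiv.Perm (Fin 77)) where
  carrier := {p | ∀ i x, hexB (p.2 i) (p.1 x) = hexB i x}
  one_mem' _ _ := rfl
  mul_mem' {p q} hp hq i x := (hp (q.2 i) (q.1 x)).trans (hq i x)
  inv_mem' {p} hp i x := by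
    have h := hp (p.2⁻¹ i) (p.1⁻¹ x)
    rw [show p.2 (p.2⁻¹ i) = i from p.2.apply_symm_apply i,
      show p.1 (p.1⁻¹ x) = x from p.1.apply_symm_apply x] at h
    exact h.symm

theorem hA_mem : (sA, piA) ∈ hSub := by
  change ∀ i x, hexB (piA i) (sA x) = hexB i x
  decide +kernel

theorem hB_mem : (sB, piB) ∈ hSub := by
  change ∀ i x, hexB (piB i) (sB x) = hexB i x
  decide +kernel

theorem hO_mem : (sO, piO) ∈ hSub := by
  change ∀ i x, hexB (piO i) (sO x) = hexB i x
  decide +kernel

theorem hex_sep : ∀ x y : GolayPt, (∀ i : Fin 77, hexB i x = hexB i y) →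
    x = y ∨ ((x = pt 0 ∨ x = pt 23) ∧ (y = pt 0 ∨ y = pt 23)) := by
  decide +kernel

theorem hex_distinct : ∀ i j : Fin 77, (∀ x : GolayPt, hexB i x = hexB j x) → i = j := by
  decide +kernel

theorem sA_mem : sA ∈ Spor.M22 := by
  have h := mem_stabGrp_of_inStab (show inStab [] maskTwo (tblOf sA) = true by decide +kernel)
  rwa [mkPerm_tblOf, ← baseTwentyTwo, baseTwentyTwo_eq] at h

theorem sB_mem : sB ∈ Spor.M22 := by
  have h := mem_stabGrp_of_inStab (show inStab [] maskTwo (tblOf sB) = true by decide +kernel)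
  rwa [mkPerm_tblOf, ← baseTwentyTwo, baseTwentyTwo_eq] at h

theorem m22_facts {s : Equiv.Perm GolayPt} (h : s ∈ Spor.M22) :
    s ∈ M24 ∧ s (pt 0) = pt 0 ∧ s (pt 23) = pt 23 := by
  rw [← baseTwentyTwo_eq] at h
  refine ⟨h.1, h.2.2 _ ?_, h.2.2 _ ?_⟩ <;> decide +kernel

/-- the pairs generated by A and B -/
def tSub : Subgroup (Equiv.Perm GolayPt × Equiv.Perm (Fin 77)) :=
  Subgroup.closure {(sA, piA), (sB, piB)}

theorem tSub_le : tSub ≤ hSub := by
  rw [tSub, Subgroup.closure_le]
  rintro p (rfl | rfl)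
  · exact hA_mem
  · exact hB_mem

theorem index_le (n i : ℕ) (h1 : 4620 ≤ n) (h2 : n * i = 443520) : i ≤ 100 := by
  by_contra hc
  have := Nat.mul_le_mul h1 (show 101 ≤ i by omega)
  omega

theorem map_fst : tSub.map (MonoidHom.fst _ _) = Spor.M22 := by
  rw [tSub, MonoidHom.map_closure, Set.image_pair]
  change Subgroup.closure {sA, sB} = Spor.M22
  refine le_antisymm ((Subgroup.closure_le _).2 ?_) ?_
  · rintro p (rfl | rfl)
    · exact sA_mem
    · exact sB_mem
  set a : Spor.M22 := ⟨sA, sA_mem⟩ with ha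
  set b : Spor.M22 := ⟨sB, sB_mem⟩ with hb
  set K : Subgroup Spor.M22 := Subgroup.closure {a, b} with hK
  haveI : Finite Spor.M22 := Subtype.finite
  have ka : a ∈ K := Subgroup.subset_closure (Or.inl rfl)
  have kb : b ∈ K := Subgroup.subset_closure (Or.inr rfl)
  have ord : ∀ (w : Spor.M22) (p : ℕ), p.Prime → w ∈ K → (∀ x, (w.1 ^ p) x = x) →
      (∃ x, w.1 x ≠ x) → p ∣ Nat.card K := by
    intro w p hp hw h1 h2
    have h3 : orderOf w = p := by
      refine orderOf_eq_prime (hp := ⟨hp⟩) (Subtype.ext (by simpa using Equiv.ext h1)) ?_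
      rintro rfl
      obtain ⟨x, hx⟩ := h2
      exact hx rfl
    rw [← h3, ← Subgroup.orderOf_mk w hw]
    exact orderOf_dvd_natCard _
  have h11 : 11 ∣ Nat.card K := ord (a * b) 11 (by norm_num) (mul_mem ka kb)
    (by change ∀ x, ((sA * sB) ^ 11) x = x; decide +kernel)
    (by change ∃ x, (sA * sB) x ≠ x; decide +kernel)
  have h7 : 7 ∣ Nat.card K := ord (a * a * b) 7 (by norm_num) (mul_mem (mul_mem ka ka) kb)
    (by change ∀ x, ((sA * sA * sB) ^ 7) x = x; decide +kernel)
    (by change ∃ x, (sA * sA * sB) x ≠ x; decide +kernel)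
  have h5 : 5 ∣ Nat.card K := ord (a * a * b * a * b) 5 (by norm_num)
    (mul_mem (mul_mem (mul_mem (mul_mem ka ka) kb) ka) kb)
    (by change ∀ x, ((sA * sA * sB * sA * sB) ^ 5) x = x; decide +kernel)
    (by change ∃ x, (sA * sA * sB * sA * sB) x ≠ x; decide +kernel)
  have h3 : 3 ∣ Nat.card K := ord a 3 (by norm_num) ka
    (by change ∀ x, (sA ^ 3) x = x; decide +kernel)
    (by change ∃ x, sA x ≠ x; decide +kernel)
  have h4 : 4 ∣ Nat.card K := by
    haveI : Fact (Nat.Prime 2) := ⟨Nat.prime_two⟩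
    have h0 : orderOf b = 2 ^ (1 + 1) := by
      refine orderOf_eq_prime_pow ?_ (Subtype.ext ?_)
      · intro h
        have h' : ∀ x, (sB ^ 2) x = x := fun x => by
          have := congrArg (fun w : Spor.M22 => w.1 x) h
          simpa [hb] using this
        revert h'
        decide +kernel
      · have h' : ∀ x, (sB ^ 4) x = x := by decide +kernel
        simpa [hb] using Equiv.ext h'
    have := orderOf_dvd_natCard (⟨b, kb⟩ : K)
    rwa [Subgroup.orderOf_mk, h0] at this
  have hd : 4620 ∣ Nat.card K := by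
    exact Nat.Coprime.mul_dvd_of_dvd_of_dvd (show Nat.Coprime 1540 3 by norm_num)
      (Nat.Coprime.mul_dvd_of_dvd_of_dvd (show Nat.Coprime 385 4 by norm_num)
        (Nat.Coprime.mul_dvd_of_dvd_of_dvd (show Nat.Coprime 77 5 by norm_num)
          (Nat.Coprime.mul_dvd_of_dvd_of_dvd (show Nat.Coprime 11 7 by norm_num) h11 h7) h5) h4) h3
  have hm : Nat.card K * K.index = 443520 := by rw [Subgroup.card_mul_index, card_spor_M22]
  have hi : K.index ≤ 100 := index_le _ _ (Nat.le_of_dvd Nat.card_pos hd) hm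
  rcases index_dvd_eleven (MulEquiv.refl _) K hi with h | h
  · intro s hs
    have : (⟨s, hs⟩ : Spor.M22) ∈ K := h ▸ Subgroup.mem_top _
    have h' := Subgroup.mem_map_of_mem Spor.M22.subtype this
    rwa [hK, MonoidHom.map_closure, Set.image_pair] at h'
  · exfalso
    have h121 := Nat.mul_dvd_mul h11 h
    rw [hm] at h121
    norm_num at h121

/-- the permutations generated by A and B -/
def t2 : Subgroup (Equiv.Perm (Fin 77)) := Subgroup.closure {piA, piB}

theorem t2_eq : tSub.map (MonoidHom.snd _ _) = t2 := by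
  rw [tSub, MonoidHom.map_closure, Set.image_pair]
  rfl

theorem fst_inj : Function.Injective ((MonoidHom.fst _ _).comp tSub.subtype) := by
  rw [injective_iff_map_eq_one]
  rintro ⟨⟨s, σ⟩, hp⟩ h
  change s = 1 at h
  subst h
  have := tSub_le hp
  have hσ : σ = 1 := Equiv.ext fun i => hex_distinct _ _ fun x => (this i x)
  subst hσ
  rfl

theorem snd_inj : Function.Injective ((MonoidHom.snd _ _).comp tSub.subtype) := by
  rw [injective_iff_map_eq_one]
  rintro ⟨⟨s, σ⟩, hp⟩ h
  change σ = 1 at h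
  subst h
  have hs : s ∈ Spor.M22 := map_fst ▸ Subgroup.mem_map_of_mem _ hp
  obtain ⟨-, h0, h23⟩ := m22_facts hs
  have hone : s = 1 := Equiv.ext fun x => by
    rcases hex_sep (s x) x (fun i => tSub_le hp i x) with h | ⟨-, rfl | rfl⟩
    · exact h
    · exact h0
    · exact h23
  subst hone
  rfl

theorem exists_equiv : Nonempty (t2 ≃* Spor.M22) := by
  have e1 := MonoidHom.ofInjective fst_inj
  have e2 := MonoidHom.ofInjective snd_inj
  refine ⟨((MulEquiv.subgroupCongr ?_).trans e2.symm).trans (e1.trans (MulEquiv.subgroupCongr ?_))⟩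
  · rw [MonoidHom.range_comp, Subgroup.range_subtype, t2_eq]
  · rw [MonoidHom.range_comp, Subgroup.range_subtype, map_fst]

theorem card_t2 : Nat.card t2 = 443520 := by
  obtain ⟨e⟩ := exists_equiv
  rw [Nat.card_congr e.toEquiv, card_spor_M22]

theorem piO_not_mem : piO ∉ t2 := by
  intro h
  rw [← t2_eq] at h
  obtain ⟨⟨s, σ⟩, hp, hσ⟩ := h
  change σ = piO at hσ
  subst hσ
  have hs : s ∈ Spor.M22 := map_fst ▸ Subgroup.mem_map_of_mem _ hp
  obtain ⟨hs24, h0, h23⟩ := m22_facts hs
  have ho : sO ∈ M24 := mem_M24_of_tblOf (by decide +kernel)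
  have hmem : (sO, piO) * (s, piO)⁻¹ ∈ hSub := mul_mem hO_mem (inv_mem (tSub_le hp))
  have hw : ∀ i x, hexB i ((sO * s⁻¹) x) = hexB i x := by
    intro i x
    have := hmem i x
    simpa using this
  have ho0 : sO (pt 0) = pt 23 := by decide +kernel
  have ho23 : sO (pt 23) = pt 0 := by decide +kernel
  have hs0 : s⁻¹ (pt 0) = pt 0 := by
    nth_rewrite 1 [← h0]; simp
  have hs23 : s⁻¹ (pt 23) = pt 23 := by
    nth_rewrite 1 [← h23]; simp
  have heq : sO * s⁻¹ = Equiv.swap (pt 0) (pt 23) := by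
    refine Equiv.ext fun x => ?_
    by_cases hx0 : x = pt 0
    · subst hx0; rw [Equiv.swap_apply_left, Equiv.Perm.mul_apply, hs0, ho0]
    by_cases hx23 : x = pt 23
    · subst hx23; rw [Equiv.swap_apply_right, Equiv.Perm.mul_apply, hs23, ho23]
    rw [Equiv.swap_apply_of_ne_of_ne hx0 hx23]
    rcases hex_sep _ x (fun i => hw i x) with h | ⟨-, h⟩
    · exact h
    · exact absurd h (not_or.2 ⟨hx0, hx23⟩)
  have hbad : (Equiv.swap (pt 0) (pt 23)) ∈ M24 := heq ▸ mul_mem ho (inv_mem hs24)
  have hb2 := (inM24_iff (validT_tblOf _)).2 (by rw [mkPerm_tblOf]; exact hbad)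
  revert hb2
  decide +kernel

end Cfsg.Agent.H45.J4Inv
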