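import Cfsg.Agent.H45.J4Inv.HGroup

/-!
The stabiliser of the fixed vector of `H` in the presented group `J4` is `H`.
-/

set_option autoImplicit false
set_option maxRecDepth 100000

namespace Cfsg.Agent.H45.J4Inv

open Cfsg Cfsg.Agent.H45 Cfsg.Agent.H45.J4Mat Cfsg.Agent.H45.J4Rep Cfsg.Agent.H46.J4Out

/-- the fixed vector, packed -/
def w0N : ℕ := orbL.getD 0 0

/-- the fixed vector -/
def w0 : Vec := toVec w0N

theorem w0_checks : Nat.beq (mulN 112 w0N xN) w0N = true ∧ Nat.beq (mulN 112 w0N yN) w0N = true ∧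
    Nat.beq (mulN 112 w0N zzN) w0N = true ∧ Nat.blt w0N (2 ^ 112) = true ∧ w0N ≠ 0 := by
  decide +kernel

theorem pow_checks : Nat.beq (powN 112 a29N 29) (oneN 112 112) = true ∧
    Nat.beq (powN 112 a31N 31) (oneN 112 112) = true ∧
    Nat.beq (powN 112 a37N 37) (oneN 112 112) = true ∧
    Nat.beq (powN 112 a43N 43) (oneN 112 112) = true ∧
    Nat.beq (powN 112 eUUN 23) (oneN 112 112) = true ∧
    Nat.beq (powN 112 grN 11) (oneN 112 112) = true := by
  decide +kernel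

theorem hSub_le : H46.J4Out.HSub ≤ stab w0 := by
  rw [H46.J4Out.HSub, Subgroup.closure_le]
  rintro g (rfl | rfl | rfl)
  · change act (toVec w0N) gx = toVec w0N
    rw [act_toVec R_x, Nat.eq_of_beq_eq_true w0_checks.1]
  · change act (toVec w0N) gy = toVec w0N
    rw [act_toVec R_y, Nat.eq_of_beq_eq_true w0_checks.2.1]
  · change act (toVec w0N) zz = toVec w0N
    rw [act_toVec r_zz, Nat.eq_of_beq_eq_true w0_checks.2.2.1]

variable (hf : Faithful)
include hf

theorem pow_eq_one {g : J} {M n : ℕ} (hg : R g M) (h : Nat.beq (powN 112 M n) (oneN 112 112) = true) :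
    g ^ n = 1 :=
  R.eq' hf (hg.pow n) R_one (Nat.eq_of_beq_eq_true h)

omit hf in
theorem ne_one_of_fix {g : J} {f : ℕ} (h : fixCard g ≤ 2 ^ f) (hlt : f < 112) : g ≠ 1 := by
  rintro rfl
  rw [fixCard_one] at h
  exact absurd h (not_le.2 (Nat.pow_lt_pow_right one_lt_two hlt))

theorem orderOf_of {g : J} {M n f : ℕ} (hn : n.Prime) (hg : R g M)
    (h : Nat.beq (powN 112 M n) (oneN 112 112) = true) (hfix : fixCard g ≤ 2 ^ f) (hlt : f < 112) :
    orderOf g = n :=
  orderOf_eq_prime (hp := Fact.mk hn) (pow_eq_one hf hg h) (ne_one_of_fix hfix hlt)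

theorem orderOf_a29 : orderOf a29 = 29 :=
  orderOf_of hf (by norm_num) r_a29 pow_checks.1 fix_a29 (by norm_num)

theorem orderOf_a31 : orderOf a31 = 31 :=
  orderOf_of hf (by norm_num) r_a31 pow_checks.2.1 fix_a31 (by norm_num)

theorem orderOf_a37 : orderOf a37 = 37 :=
  orderOf_of hf (by norm_num) r_a37 pow_checks.2.2.1 fix_a37 (by norm_num)

theorem orderOf_a43 : orderOf a43 = 43 :=
  orderOf_of hf (by norm_num) r_a43 pow_checks.2.2.2.1 fix_a43 (by norm_num)

theorem orderOf_eUU : orderOf eUU = 23 :=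
  orderOf_of hf (by norm_num) r_eUU pow_checks.2.2.2.2.1 fix_eUU (by norm_num)

theorem orderOf_gr : orderOf gr = 11 :=
  orderOf_of hf (by norm_num) r_gr pow_checks.2.2.2.2.2 fix_gr (by norm_num)

omit hf in
/-- the stabiliser arithmetic -/
theorem arith : ∀ a ∈ [1, 11, 121], ∀ b ∈ [1, 31], ∀ c ∈ [1, 37],
    (29 * 43 * (a * b * c) % 23 ≤ 3 ∧ 29 * 43 * (a * b * c) % 37 ≤ 15 ∧
      29 * 43 * (a * b * c) % 31 ≤ 3) → a * b * c = 138787 := by
  decide

omit hf in
theorem orbit_fix {p f : ℕ} [Fact p.Prime] {a : J} (ha : a ^ p = 1) (hfix : fixCard a ≤ 2 ^ f) :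
    ∃ r, r ≤ 2 ^ f - 1 ∧ Nat.card (Set.range fun g => act w0 g) ≡ r [MOD p] := by
  refine ⟨_, ?_, card_modEq_fix ha _ (by rintro _ ⟨g, rfl⟩; exact ⟨g * a, act_mul _ _ _⟩)⟩
  have h0 : (0 : Vec) ∉ {v : Vec | v ∈ Set.range (fun g => act w0 g) ∧ act v a = v} := by
    rintro ⟨⟨g, hg⟩, -⟩
    have h := congrArg (fun v => act v g⁻¹) hg
    simp only [act_inv_cancel, act_zero] at h
    exact w0_checks.2.2.2.2 (toVec_inj (Nat.le_of_ble_eq_true w0_checks.2.2.2.1) (by norm_num)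
      (h.trans (funext fun j => by simp [toVec, bz])))
  have hsub : {v : Vec | v ∈ Set.range (fun g => act w0 g) ∧ act v a = v} ⊆
      {v : Vec | act v a = v} \ {0} :=
    fun v hv => ⟨hv.2, fun h => h0 (Set.mem_singleton_iff.1 h ▸ hv)⟩
  refine le_trans (Set.ncard_le_ncard hsub (Set.toFinite _)) ?_
  rw [Set.ncard_sdiff_singleton_of_mem (show (0 : Vec) ∈ {v : Vec | act v a = v} from act_zero a)]
  exact Nat.sub_le_sub_right hfix 1

theorem stab_eq [Finite J] (hcard : Nat.card J = 86775571046077562880) :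
    stab w0 = H46.J4Out.HSub ∧ H46.J4Out.HSub.index = 173067389 := by
  haveI : Fact (Nat.Prime 23) := ⟨by norm_num⟩
  haveI : Fact (Nat.Prime 29) := ⟨by norm_num⟩
  haveI : Fact (Nat.Prime 31) := ⟨by norm_num⟩
  haveI : Fact (Nat.Prime 37) := ⟨by norm_num⟩
  haveI : Fact (Nat.Prime 43) := ⟨by norm_num⟩
  have hidx : H46.J4Out.HSub.index = 173067389 := by
    have h := H46.J4Out.HSub.card_mul_index
    rw [hcard, card_HSub hf] at h
    omega
  set N := Nat.card (Set.range fun g => act w0 g) with hN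
  have horb : N = (stab w0).index := by
    rw [hN, Subgroup.index]
    refine Nat.card_congr (Equiv.ofBijective
      (fun q : J ⧸ stab w0 => (⟨Quotient.liftOn' q (fun g => act w0 g⁻¹) ?_, ?_⟩ :
        Set.range fun g => act w0 g)) ⟨?_, ?_⟩).symm
    · intro g h hgh
      have hmem : g⁻¹ * h ∈ stab w0 := QuotientGroup.leftRel_apply.1 hgh
      change act w0 g⁻¹ = act w0 h⁻¹
      calc act w0 g⁻¹ = act w0 ((g⁻¹ * h) * h⁻¹) := by rw [mul_inv_cancel_right]
        _ = act w0 h⁻¹ := by rw [act_mul, (hmem : act w0 (g⁻¹ * h) = w0)]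
    · induction q using QuotientGroup.induction_on with
      | H g => exact ⟨g⁻¹, rfl⟩
    · intro q q' h
      induction q using QuotientGroup.induction_on with
      | H g =>
      induction q' using QuotientGroup.induction_on with
      | H g' =>
      have h' : act w0 g⁻¹ = act w0 g'⁻¹ := Subtype.mk.inj h
      refine QuotientGroup.eq.2 ?_
      change act w0 (g⁻¹ * g') = w0
      rw [act_mul, h', act_cancel_inv]
    · rintro ⟨_, g, rfl⟩
      exact ⟨QuotientGroup.mk g⁻¹, Subtype.ext (show act w0 g⁻¹⁻¹ = act w0 g by rw [inv_inv])⟩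
  have hdvd : N ∣ 173067389 := by rw [horb, ← hidx]; exact Subgroup.index_dvd_of_le hSub_le
  obtain ⟨r1, h1, m1⟩ := orbit_fix (p := 29) (pow_eq_one hf r_a29 pow_checks.1) fix_a29
  obtain ⟨r2, h2, m2⟩ := orbit_fix (p := 43) (pow_eq_one hf r_a43 pow_checks.2.2.2.1) fix_a43
  obtain ⟨r3, h3, m3⟩ := orbit_fix (p := 37) (pow_eq_one hf r_a37 pow_checks.2.2.1) fix_a37
  obtain ⟨r4, h4, m4⟩ := orbit_fix (p := 31) (pow_eq_one hf r_a31 pow_checks.2.1) fix_a31
  obtain ⟨r5, h5, m5⟩ := orbit_fix (p := 23) (pow_eq_one hf r_eUU pow_checks.2.2.2.2.1) fix_eUU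
  rw [← hN] at m1 m2 m3 m4 m5
  unfold Nat.ModEq at m1 m2 m3 m4 m5
  norm_num at h1 h2 h3 h4 h5
  subst h1 h2
  have h29 : 29 ∣ N := Nat.dvd_of_mod_eq_zero (by omega)
  have h43 : 43 ∣ N := Nat.dvd_of_mod_eq_zero (by omega)
  obtain ⟨M, hM⟩ : 29 * 43 ∣ N := Nat.Coprime.mul_dvd_of_dvd_of_dvd (by norm_num) h29 h43
  have hMd : M ∣ 121 * 31 * 37 := by
    rw [hM, show (173067389 : ℕ) = 29 * 43 * (121 * 31 * 37) by norm_num] at hdvd
    exact Nat.dvd_of_mul_dvd_mul_left (by norm_num) hdvd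
  obtain ⟨ab, c, hab, hc, rfl⟩ := Nat.dvd_mul.1 hMd
  obtain ⟨a, b, ha, hb, rfl⟩ := Nat.dvd_mul.1 hab
  have hb' := (Nat.dvd_prime (by norm_num : Nat.Prime 31)).1 hb
  have hc' := (Nat.dvd_prime (by norm_num : Nat.Prime 37)).1 hc
  obtain ⟨i, hi, rfl⟩ := (Nat.dvd_prime_pow (by norm_num : Nat.Prime 11)).1
    (show a ∣ 11 ^ 2 by simpa using ha)
  have hNeq : 11 ^ i * b * c = 138787 := by
    refine arith (11 ^ i) ?_ b ?_ c ?_ ?_
    · interval_cases i <;> simp
    · rcases hb' with rfl | rfl <;> simp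
    · rcases hc' with rfl | rfl <;> simp
    · rw [← hM, m5, m3, m4, Nat.mod_eq_of_lt (show r5 < 23 by omega),
        Nat.mod_eq_of_lt (show r3 < 37 by omega), Nat.mod_eq_of_lt (show r4 < 31 by omega)]
      exact ⟨h5, h3, h4⟩
  refine ⟨(eq_of_le_of_index_le ?_).symm, hidx⟩
  rw [hM, hNeq] at horb
  omega
where
  eq_of_le_of_index_le (h : H46.J4Out.HSub.index ≤ (stab w0).index) :
      H46.J4Out.HSub = stab w0 := by
    refine le_antisymm hSub_le ?_
    rcases eq_or_lt_of_le hSub_le with heq | hlt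
    · exact heq.ge
    · exact absurd h (not_le.2 (Subgroup.index_strictAnti hlt))

end Cfsg.Agent.H45.J4Inv
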