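import Cfsg.Agent.H45.J4Inv.Act
import Cfsg.Agent.H45.J4Inv.Stab

/-!
The candidate centraliser: its order, the kernel and the subgroup of index two.
-/

set_option autoImplicit false
set_option maxRecDepth 100000

namespace Cfsg.Agent.H45.J4Inv

open Cfsg Cfsg.Agent.H45 Cfsg.Agent.H45.J4Rep Cfsg.Agent.H45.J4Mat Cfsg.Agent.H46.J4Out

/-- the candidate centraliser -/
noncomputable def cGrp : Subgroup J := qGrp ⊔ Subgroup.closure {gA, gB, gO}
/-- its subgroup of index two -/
noncomputable def mGrp : Subgroup J := qGrp ⊔ Subgroup.closure {gA, gB}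
/-- the kernel -/
noncomputable def nGrp : Subgroup J := qGrp ⊔ Subgroup.closure {gk}

theorem qGrp_le_cGrp : qGrp ≤ cGrp := le_sup_left
theorem gA_mem_cGrp : gA ∈ cGrp := Subgroup.mem_sup_right (Subgroup.subset_closure (by simp))
theorem gB_mem_cGrp : gB ∈ cGrp := Subgroup.mem_sup_right (Subgroup.subset_closure (by simp))
theorem gO_mem_cGrp : gO ∈ cGrp := Subgroup.mem_sup_right (Subgroup.subset_closure (by simp))
theorem gA_mem_mGrp : gA ∈ mGrp := Subgroup.mem_sup_right (Subgroup.subset_closure (by simp))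
theorem gB_mem_mGrp : gB ∈ mGrp := Subgroup.mem_sup_right (Subgroup.subset_closure (by simp))

theorem mGrp_le_cGrp : mGrp ≤ cGrp :=
  sup_le_sup_left (Subgroup.closure_mono (by
    rintro x (rfl | rfl) <;> simp)) _

/-- conjugation table of a generator -/
noncomputable def cjOk (M : ℕ) (T : List (ℕ × Bool)) : Bool :=
  (List.range 12).all fun k => Nat.beq (mulN 112 M (qqN k))
    (mulN 112 (mulN 112 (qPrN (T.getD k (0, false)).1 12) (zBN (T.getD k (0, false)).2)) M)

theorem cj_checks : (cjOk gAN cjA && cjOk gBN cjB && cjOk gON cjO) = true := by decide +kernel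

theorem zz_comm_checks : (Nat.beq (mulN 112 gAN zzN) (mulN 112 zzN gAN) &&
    Nat.beq (mulN 112 gBN zzN) (mulN 112 zzN gBN) &&
    Nat.beq (mulN 112 gON zzN) (mulN 112 zzN gON)) = true := by decide +kernel

theorem gk_check : Nat.beq gkN (powN 112
    (mulN 112 (mulN 112 (mulN 112 (mulN 112 (mulN 112 gAN gAN) gBN) gAN) gBN) gBN) 4) = true := by
  decide +kernel

theorem gk_order_checks : (Nat.beq (powN 112 gkN 3) (oneN 112 112) &&
    differs gkN (oneN 112 112)) = true := by decide +kernel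

variable (hf : Faithful)
include hf

theorem gk_eq : gk = (gA * gA * gB * gA * gB * gB) ^ 4 :=
  R.eq' hf r_gk ((((((r_gA.mul' r_gA).mul' r_gB).mul' r_gA).mul' r_gB).mul' r_gB).pow 4)
    (Nat.eq_of_beq_eq_true gk_check)

theorem gk_mem_mGrp : gk ∈ mGrp := by
  rw [gk_eq hf]
  exact pow_mem (mul_mem (mul_mem (mul_mem (mul_mem (mul_mem gA_mem_mGrp gA_mem_mGrp) gB_mem_mGrp)
    gA_mem_mGrp) gB_mem_mGrp) gB_mem_mGrp) 4

theorem orderOf_gk : orderOf gk = 3 := by
  have h := gk_order_checks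
  simp only [Bool.and_eq_true] at h
  exact orderOf_eq_prime (hp := ⟨by norm_num⟩) (pow_eq_one hf r_gk h.1) (r_gk.ne' R_one h.2)

theorem nGrp_le_mGrp : nGrp ≤ mGrp :=
  sup_le le_sup_left ((Subgroup.closure_le _).2 (Set.singleton_subset_iff.2 (gk_mem_mGrp hf)))

theorem nGrp_le_cGrp : nGrp ≤ cGrp := (nGrp_le_mGrp hf).trans mGrp_le_cGrp

theorem conj_qq {g : J} {M : ℕ} {T : List (ℕ × Bool)} (hg : R g M) (h : cjOk M T = true)
    {k : ℕ} (hk : k < 12) :
    g * qq k * g⁻¹ = qPr (T.getD k (0, false)).1 12 * zB (T.getD k (0, false)).2 :=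
  mul_inv_eq_iff_eq_mul.2 (R.eq' hf (hg.mul' (r_qq k)) (((r_qPr _ 12).mul' (r_zB _)).mul' hg)
    (Nat.eq_of_beq_eq_true (List.all_eq_true.1 h k (List.mem_range.2 hk))))

theorem gens_comm : Commute gA zz ∧ Commute gB zz ∧ Commute gO zz := by
  have h := zz_comm_checks
  simp only [Bool.and_eq_true] at h
  exact ⟨R.eq' hf (r_gA.mul' r_zz) (r_zz.mul' r_gA) (Nat.eq_of_beq_eq_true h.1.1),
    R.eq' hf (r_gB.mul' r_zz) (r_zz.mul' r_gB) (Nat.eq_of_beq_eq_true h.1.2),
    R.eq' hf (r_gO.mul' r_zz) (r_zz.mul' r_gO) (Nat.eq_of_beq_eq_true h.2)⟩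

theorem cGrp_le_centralizer : cGrp ≤ Subgroup.centralizer {zz} := by
  refine sup_le (fun e he => Subgroup.mem_centralizer_singleton_iff.2 (commute_zz_qGrp hf he).eq.symm)
    ((Subgroup.closure_le _).2 ?_)
  obtain ⟨a, b, c⟩ := gens_comm hf
  rintro x (rfl | rfl | rfl) <;>
    first
    | exact Subgroup.mem_centralizer_singleton_iff.2 a.eq
    | exact Subgroup.mem_centralizer_singleton_iff.2 b.eq
    | exact Subgroup.mem_centralizer_singleton_iff.2 c.eq

theorem conj_gen_mem {g : J} {M : ℕ} {T : List (ℕ × Bool)} (hg : R g M) (h : cjOk M T = true)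
    (hz : Commute g zz) {e : J} (he : e ∈ qGrp) : g * e * g⁻¹ ∈ qGrp := by
  have hle : qGrp ≤ qGrp.comap (MulAut.conj g).toMonoidHom := by
    refine (Subgroup.closure_le _).2 ?_
    rintro x (rfl | ⟨k, hk, rfl⟩)
    · change g * zz * g⁻¹ ∈ qGrp
      rw [hz.eq, mul_inv_cancel_right]; exact zz_mem_qGrp
    · change g * qq k * g⁻¹ ∈ qGrp
      rw [conj_qq hf hg h hk]
      exact mul_mem (qPr_mem_qGrp _ 12 le_rfl) (zB_mem_qGrp _)
  exact hle he

theorem cGrp_conj {g e : J} (hg : g ∈ cGrp) (he : e ∈ qGrp) : g * e * g⁻¹ ∈ qGrp := by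
  haveI : Finite qGrp := Nat.finite_of_card_ne_zero (by rw [card_qGrp hf]; norm_num)
  have key : cGrp ≤ Subgroup.normalizer (qGrp : Set J) := by
    refine sup_le Subgroup.le_normalizer ((Subgroup.closure_le _).2 ?_)
    have h := cj_checks
    simp only [Bool.and_eq_true] at h
    obtain ⟨a, b, c⟩ := gens_comm hf
    have one : ∀ g : J, (∀ e ∈ qGrp, g * e * g⁻¹ ∈ qGrp) → g ∈ Subgroup.normalizer (qGrp : Set J) := by
      intro g hg
      rw [Subgroup.mem_normalizer_iff]
      intro n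
      refine ⟨hg n, fun hn => ?_⟩
      have hinj : Function.Injective fun x : qGrp => (⟨g * x.1 * g⁻¹, hg _ x.2⟩ : qGrp) := by
        intro x y hxy
        exact Subtype.ext (mul_left_cancel (mul_right_cancel (Subtype.mk.inj hxy)))
      obtain ⟨x, hx⟩ := Finite.injective_iff_surjective.1 hinj ⟨_, hn⟩
      have hxn : x.1 = n := mul_left_cancel (mul_right_cancel (Subtype.mk.inj hx))
      exact hxn ▸ x.2
    rintro x (rfl | rfl | rfl)
    · exact one _ fun e he => conj_gen_mem hf r_gA h.1.1 a he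
    · exact one _ fun e he => conj_gen_mem hf r_gB h.1.2 b he
    · exact one _ fun e he => conj_gen_mem hf r_gO h.2 c he
  exact (Subgroup.mem_normalizer_iff.1 (key hg) e).1 he

omit hf in
theorem exists_perm {g : J} (hg : g ∈ cGrp) : ∃ σ, (g, σ) ∈ pSub := by
  have h : cGrp ≤ pSub.map (MonoidHom.fst _ _) := by
    refine sup_le (fun e he => ⟨(e, 1), qGrp_fix he, rfl⟩) ((Subgroup.closure_le _).2 ?_)
    rintro x (rfl | rfl | rfl)
    · exact ⟨_, pA_mem, rfl⟩
    · exact ⟨_, pB_mem, rfl⟩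
    · exact ⟨_, pO_mem, rfl⟩
  obtain ⟨⟨g', σ⟩, hp, rfl⟩ := h hg
  exact ⟨σ, hp⟩

omit hf in
/-- the permutation action of the candidate -/
noncomputable def piHom : cGrp →* Equiv.Perm (Fin 77) :=
  MonoidHom.mk' (fun g => (exists_perm g.2).choose) fun g h =>
    perm_unique (exists_perm (g * h).2).choose_spec
      (mul_mem (exists_perm g.2).choose_spec (exists_perm h.2).choose_spec :
        ((g.1, (exists_perm g.2).choose) * (h.1, (exists_perm h.2).choose)) ∈ pSub)

omit hf in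
theorem piHom_spec (g : cGrp) : (g.1, piHom g) ∈ pSub := (exists_perm g.2).choose_spec

omit hf in
theorem piHom_eq {g : cGrp} {σ : Equiv.Perm (Fin 77)} (h : (g.1, σ) ∈ pSub) : piHom g = σ :=
  perm_unique (piHom_spec g) h

omit hf in
theorem piHom_qGrp {g : cGrp} (h : g.1 ∈ qGrp) : piHom g = 1 := piHom_eq (qGrp_fix h)

variable [Finite J]

theorem card_cent_HSub_le :
    Nat.card (Subgroup.centralizer {zz} ⊓ H46.J4Out.HSub : Subgroup J) ≤ 283115520 := by
  set H := H46.J4Out.HSub with hH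
  set S := (Subgroup.centralizer ({zz} : Set J)).subgroupOf H with hS
  have h1 : Nat.card {e : J // ∃ h ∈ H, h * zz * h⁻¹ = e} ≤ S.index := by
    refine Nat.card_le_card_of_injective (fun e => QuotientGroup.mk
      (⟨e.2.choose, e.2.choose_spec.1⟩ : H)) ?_
    intro e e' h
    have hm := QuotientGroup.eq.1 h
    rw [hS, Subgroup.mem_subgroupOf, Subgroup.mem_centralizer_singleton_iff] at hm
    simp only [Subgroup.coe_mul, Subgroup.coe_inv] at hm
    apply Subtype.ext
    rw [← e.2.choose_spec.2, ← e'.2.choose_spec.2]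
    calc e.2.choose * zz * e.2.choose⁻¹
        = e.2.choose * (zz * (e.2.choose⁻¹ * e'.2.choose)) * e'.2.choose⁻¹ := by group
      _ = e'.2.choose * zz * e'.2.choose⁻¹ := by rw [← hm]; group
  have h2 : Nat.card S * S.index = 501397585920 := by rw [Subgroup.card_mul_index, card_HSub hf]
  have h3 : Nat.card (Subgroup.centralizer {zz} ⊓ H : Subgroup J) = Nat.card S := by
    rw [inf_comm]
    exact Nat.card_congr
      { toFun := fun x => ⟨⟨x.1, x.2.1⟩, Subgroup.mem_subgroupOf.2 x.2.2⟩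
        invFun := fun x => ⟨x.1.1, x.1.2, Subgroup.mem_subgroupOf.1 x.2⟩
        left_inv := fun _ => rfl
        right_inv := fun _ => rfl }
  have h4 : 1771 ≤ S.index := (card_class_ge hf).trans h1
  rw [h3]
  have h5 := Nat.mul_le_mul_left (Nat.card S) h4
  rw [h2] at h5
  omega

theorem card_cGrp_le (hcard : Nat.card J = 86775571046077562880) :
    Nat.card cGrp ≤ 21799895040 := by
  set S := (stab w0).subgroupOf cGrp with hS
  have h1 : S.index ≤ 77 := by
    refine (Nat.card_le_card_of_injective (fun q : cGrp ⧸ S => piHom q.out 0) ?_).trans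
      (Nat.card_fin 77).le
    intro q q' h
    simp only at h
    rw [← q.out_eq, ← q'.out_eq]
    refine Quotient.sound (QuotientGroup.leftRel_apply.2 ?_)
    change ((q.out⁻¹ * q'.out : cGrp) : J) ∈ stab w0
    rw [mem_stab]
    have e1 := piHom_spec q.out 0
    have e2 := piHom_spec q'.out 0
    change act (oVec (piHom q.out 0)) _ = oVec 0 at e1
    change act (oVec (piHom q'.out 0)) _ = oVec 0 at e2
    rw [h] at e1
    simp only [Subgroup.coe_mul, Subgroup.coe_inv]
    change act (oVec 0) _ = oVec 0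
    rw [act_mul]
    nth_rewrite 1 [← e1]
    rw [act_inv_cancel, e2]
  have h2 : Nat.card S ≤ 283115520 := by
    refine le_trans ?_ (card_cent_HSub_le hf)
    refine Nat.card_le_card_of_injective (fun x => ⟨x.1.1, cGrp_le_centralizer hf x.1.2, ?_⟩) ?_
    · rw [← (stab_eq hf hcard).1]
      exact Subgroup.mem_subgroupOf.1 x.2
    · intro x y h
      exact Subtype.ext (Subtype.ext (Subtype.mk.inj h))
  rw [← S.card_mul_index]
  exact (Nat.mul_le_mul h2 h1).trans (by norm_num)

omit [Finite J] in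
omit hf in
theorem range_facts : t2 ≤ piHom.range ∧ piO ∈ piHom.range := by
  refine ⟨(Subgroup.closure_le _).2 ?_, ⟨⟨gO, gO_mem_cGrp⟩, piHom_eq pO_mem⟩⟩
  rintro x (rfl | rfl)
  · exact ⟨⟨gA, gA_mem_cGrp⟩, piHom_eq pA_mem⟩
  · exact ⟨⟨gB, gB_mem_cGrp⟩, piHom_eq pB_mem⟩

/-- the kernel, inside `J` -/
noncomputable def kerJ : Subgroup J := piHom.ker.map cGrp.subtype

omit [Finite J] in
theorem nGrp_le_kerJ : nGrp ≤ kerJ := by
  refine sup_le (fun e he => ⟨⟨e, qGrp_le_cGrp he⟩, piHom_qGrp he, rfl⟩)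
    ((Subgroup.closure_le _).2 (Set.singleton_subset_iff.2 ?_))
  exact ⟨⟨gk, mGrp_le_cGrp (gk_mem_mGrp hf)⟩, piHom_eq gk_fix, rfl⟩

theorem le_card_nGrp : 24576 ≤ Nat.card nGrp := by
  refine Nat.le_of_dvd Nat.card_pos ?_
  have h8 : 8192 ∣ Nat.card nGrp := by
    rw [← card_qGrp hf]; exact Subgroup.card_dvd_of_le le_sup_left
  have h3 : 3 ∣ Nat.card nGrp := by
    rw [← orderOf_gk hf, ← Subgroup.orderOf_mk gk
      (Subgroup.mem_sup_right (Subgroup.subset_closure rfl) : gk ∈ nGrp)]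
    exact orderOf_dvd_natCard _
  exact Nat.Coprime.mul_dvd_of_dvd_of_dvd (show Nat.Coprime 8192 3 by norm_num) h8 h3

theorem card_facts (hcard : Nat.card J = 86775571046077562880) :
    Nat.card cGrp = 21799895040 ∧ Nat.card nGrp = 24576 ∧ nGrp = kerJ ∧
      Nat.card piHom.range = 887040 := by
  have hr : 887040 ≤ Nat.card piHom.range := by
    obtain ⟨h1, h2⟩ := range_facts
    obtain ⟨k, hk⟩ := Subgroup.card_dvd_of_le h1
    rw [card_t2] at hk
    have hk0 : k ≠ 0 := fun e => (Nat.card_pos (α := piHom.range)).ne' (by rw [hk, e, mul_zero])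
    have hk1 : k ≠ 1 := by
      rintro rfl
      exact piO_not_mem (Subgroup.eq_of_le_of_card_ge h1 (by rw [card_t2, hk, mul_one]) ▸ h2)
    rw [hk]
    exact le_trans (by norm_num) (Nat.mul_le_mul_left 443520 (show 2 ≤ k by omega))
  have hk : Nat.card kerJ = Nat.card piHom.ker :=
    Subgroup.card_map_of_injective (Subgroup.subtype_injective _)
  have hle := Subgroup.card_le_of_le (nGrp_le_kerJ hf)
  have hn := le_card_nGrp hf
  have hmul : Nat.card piHom.ker * Nat.card piHom.range = Nat.card cGrp := by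
    rw [← Subgroup.index_ker, Subgroup.card_mul_index]
  have hC := card_cGrp_le hf hcard
  have e : Nat.card piHom.ker * Nat.card piHom.range ≤ 24576 * 887040 := by
    rw [hmul]; exact hC.trans (by norm_num)
  have hkk : 24576 ≤ Nat.card piHom.ker := hk ▸ hn.trans hle
  obtain ⟨ek, er⟩ := prod_eq (a := Nat.card piHom.ker) (b := Nat.card piHom.range) hkk hr e
  refine ⟨by rw [← hmul, ek, er], le_antisymm ?_ hn, ?_, er⟩
  · exact hle.trans (hk.trans ek).le
  · exact Subgroup.eq_of_le_of_card_ge (nGrp_le_kerJ hf) (by rw [hk, ek]; exact hn)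
where
  prod_eq {a b : ℕ} (ha : 24576 ≤ a) (hb : 887040 ≤ b) (h : a * b ≤ 24576 * 887040) :
      a = 24576 ∧ b = 887040 := by
    constructor <;> nlinarith

theorem card_mGrp (hcard : Nat.card J = 86775571046077562880) :
    Nat.card mGrp = 10899947520 ∧ (mGrp.subgroupOf cGrp).map piHom = t2 ∧
      piHom.ker ≤ mGrp.subgroupOf cGrp := by
  obtain ⟨-, hn, hk, -⟩ := card_facts hf hcard
  have hmap : (mGrp.subgroupOf cGrp).map piHom = t2 := by
    refine le_antisymm ?_ ((Subgroup.closure_le _).2 ?_)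
    · rintro σ ⟨g, hg, rfl⟩
      have h : mGrp ≤ (pSub ⊓ t2.comap (MonoidHom.snd J _)).map (MonoidHom.fst _ _) := by
        refine sup_le (fun e he => ⟨(e, 1), ⟨qGrp_fix he, (one_mem t2 : (1 : Equiv.Perm (Fin 77)) ∈ t2)⟩, rfl⟩)
          ((Subgroup.closure_le _).2 ?_)
        rintro x (rfl | rfl)
        · exact ⟨_, ⟨pA_mem, Subgroup.subset_closure (Or.inl rfl)⟩, rfl⟩
        · exact ⟨_, ⟨pB_mem, Subgroup.subset_closure (Or.inr rfl)⟩, rfl⟩
      obtain ⟨⟨g', τ⟩, ⟨hp, ht⟩, hg'⟩ := h (Subgroup.mem_subgroupOf.1 hg)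
      change g' = g.1 at hg'
      subst hg'
      rw [piHom_eq hp]
      exact ht
    · rintro x (rfl | rfl)
      · exact ⟨⟨gA, gA_mem_cGrp⟩, gA_mem_mGrp, piHom_eq pA_mem⟩
      · exact ⟨⟨gB, gB_mem_cGrp⟩, gB_mem_mGrp, piHom_eq pB_mem⟩
  have hker : piHom.ker ≤ mGrp.subgroupOf cGrp := fun g hg =>
    Subgroup.mem_subgroupOf.2 (nGrp_le_mGrp hf (hk ▸ ⟨g, hg, rfl⟩))
  refine ⟨?_, hmap, hker⟩
  set ψ := piHom.comp (mGrp.subgroupOf cGrp).subtype with hψ
  have h1 : Nat.card ψ.ker * Nat.card ψ.range = Nat.card mGrp := by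
    rw [← Subgroup.index_ker, Subgroup.card_mul_index,
      Nat.card_congr (Subgroup.subgroupOfEquivOfLe mGrp_le_cGrp).toEquiv]
  have h2 : Nat.card ψ.ker = 24576 := by
    rw [← hn, hk, kerJ, Subgroup.card_map_of_injective (Subgroup.subtype_injective _)]
    exact Nat.card_congr
      { toFun := fun x => ⟨x.1.1, x.2⟩
        invFun := fun x => ⟨⟨x.1, hker x.2⟩, x.2⟩
        left_inv := fun _ => rfl
        right_inv := fun _ => rfl }
  have h3 : Nat.card ψ.range = 443520 := by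
    rw [hψ, MonoidHom.range_comp, Subgroup.range_subtype, hmap, card_t2]
  rw [← h1, h2, h3]

end Cfsg.Agent.H45.J4Inv
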