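import Cfsg.Agent.H45.J4Inv.Certs0
import Cfsg.Agent.H45.J4Inv.Certs1
import Cfsg.Agent.H45.J4Inv.Lin

/-!
Consequences of the rank certificates.
-/

set_option autoImplicit false
set_option maxRecDepth 100000

namespace Cfsg.Agent.H45.J4Inv

open Matrix Cfsg.Agent.H45 Cfsg.Agent.H45.J4Mat Cfsg.Agent.H45.J4Rep Cfsg.Agent.H46.J4Out

theorem fix_a29 : fixCard a29 ≤ 2 ^ 0 :=
  fixCard_le (X := x_29) (Fl := fl_29) (Fr := fr_29) (by norm_num) r_a29 (by decide +kernel)
    (by decide +kernel)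

theorem fix_a31 : fixCard a31 ≤ 2 ^ 2 :=
  fixCard_le (X := x_31) (Fl := fl_31) (Fr := fr_31) (by norm_num) r_a31 (by decide +kernel)
    (by decide +kernel)

theorem fix_a37 : fixCard a37 ≤ 2 ^ 4 :=
  fixCard_le (X := x_37) (Fl := fl_37) (Fr := fr_37) (by norm_num) r_a37 (by decide +kernel)
    (by decide +kernel)

theorem fix_a43 : fixCard a43 ≤ 2 ^ 0 :=
  fixCard_le (X := x_43) (Fl := fl_43) (Fr := fr_43) (by norm_num) r_a43 (by decide +kernel)
    (by decide +kernel)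

theorem fix_eUU : fixCard eUU ≤ 2 ^ 2 :=
  fixCard_le (X := x_23) (Fl := fl_23) (Fr := fr_23) (by norm_num) r_eUU (by decide +kernel)
    (by decide +kernel)

theorem fix_gr : fixCard gr ≤ 2 ^ 2 :=
  fixCard_le (X := x_r) (Fl := fl_r) (Fr := fr_r) (by norm_num) r_gr (by decide +kernel)
    (by decide +kernel)

theorem fix_cP : fixCard cP ≤ 2 ^ 2 :=
  fixCard_le (X := x_c) (Fl := fl_c) (Fr := fr_c) (by norm_num) r_cP (by decide +kernel)
    (by decide +kernel)

/-- certificates of the representatives -/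
def repCert : ℕ → ℕ × ℕ × ℕ
  | 0 => (x_p0, fl_p0, fr_p0)
  | 1 => (x_p1, fl_p1, fr_p1)
  | 2 => (x_p2, fl_p2, fr_p2)
  | 3 => (x_p3, fl_p3, fr_p3)
  | 4 => (x_p4, fl_p4, fr_p4)
  | 5 => (x_p5, fl_p5, fr_p5)
  | 6 => (x_p6, fl_p6, fr_p6)
  | 7 => (x_p7, fl_p7, fr_p7)
  | 8 => (x_p8, fl_p8, fr_p8)
  | 9 => (x_p9, fl_p9, fr_p9)
  | 10 => (x_p10, fl_p10, fr_p10)
  | 11 => (x_p11, fl_p11, fr_p11)
  | _ => (0, 0, 0)

theorem repCert_ok : ((List.range 12).all fun i =>
    Nat.beq (mulN 112 (repN i ^^^ oneN 112 112) (repCert i).1)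
        (oneN 112 112 ^^^ mulN 112 (repCert i).2.1 (repCert i).2.2) &&
      Nat.beq (mulN 112 (repCert i).2.1 (oneN 112 12)) (repCert i).2.1) = true := by
  decide +kernel

theorem fix_rep (i : ℕ) (hi : i < 12) : fixCard (rep i) ≤ 2 ^ 12 := by
  have h := List.all_eq_true.1 repCert_ok i (List.mem_range.2 hi)
  simp only [Bool.and_eq_true] at h
  exact fixCard_le (X := (repCert i).1) (Fl := (repCert i).2.1) (Fr := (repCert i).2.2)
    (by norm_num) (r_rep i) h.1 h.2

/-- the matrix of the involution plus one -/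
noncomputable def zM : Mx := toMat 112 zzN + 1

theorem card_range_zM : Nat.card (Set.range fun v : Vec => v ᵥ* zM) = 2 ^ 50 := by
  refine card_range (L := toMat 112 lcW) (B := toMat 112 bW) (R := toMat 112 rW)
    (T := toMat 112 tW) (by norm_num) ?_ ?_ ?_ ?_
  · rw [zM, ← toMat_oneN, ← toMat_xor, ← toMat_mulN]
    exact congrArg (toMat 112) (Nat.eq_of_beq_eq_true (by decide +kernel))
  · rw [zM, ← toMat_oneN, ← toMat_xor, ← toMat_mulN]
    exact congrArg (toMat 112) (Nat.eq_of_beq_eq_true (by decide +kernel))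
  · rw [projM, ← toMat_mulN]
    exact congrArg (toMat 112) (Nat.eq_of_beq_eq_true (by decide +kernel))
  · rw [projM, ← toMat_mulN]
    exact congrArg (toMat 112) (Nat.eq_of_beq_eq_true (by decide +kernel))

/-- a polynomial in the element of order 31 -/
noncomputable def kM : Mx :=
  toMat 112 (powN 112 a31N 5 ^^^ powN 112 a31N 4 ^^^ powN 112 a31N 2 ^^^ a31N ^^^ oneN 112 112)

theorem kM_eq : kM = (let A : Mx := ((rho a31 : GL112) : Mx); A ^ 5 + A ^ 4 + A ^ 2 + A + 1) := by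
  have h : ((rho a31 : GL112) : Mx) = toMat 112 a31N := r_a31
  simp only [kM, h, toMat_xor, toMat_powN, toMat_oneN]

theorem kM_rows : (toMat 112 fr_k * projM 112) * kM = 0 ∧
    projM 15 * toMat 112 fr_k = toMat 112 fr_k ∧ toMat 112 fr_k * toMat 112 tK = projM 15 := by
  refine ⟨?_, ?_, ?_⟩
  · rw [projM, kM, ← toMat_mulN, ← toMat_mulN,
      show toMat 112 (mulN 112 (mulN 112 fr_k (oneN 112 112)) (powN 112 a31N 5 ^^^ powN 112 a31N 4 ^^^
        powN 112 a31N 2 ^^^ a31N ^^^ oneN 112 112)) = toMat 112 0 from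
        congrArg _ (Nat.eq_of_beq_eq_true (by decide +kernel))]
    ext i j
    simp [toMat, bz]
  · rw [projM, ← toMat_mulN]
    exact congrArg (toMat 112) (Nat.eq_of_beq_eq_true (by decide +kernel))
  · rw [projM, ← toMat_mulN]
    exact congrArg (toMat 112) (Nat.eq_of_beq_eq_true (by decide +kernel))

theorem card_ker_kM : Nat.card {v : Vec // v ᵥ* kM = 0} = 2 ^ 15 := by
  refine le_antisymm (card_ker_le (X := toMat 112 x_k) (Fl := toMat 112 fl_k) (Fr := toMat 112 fr_k)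
    (by norm_num) ?_ ?_) ?_
  · rw [kM, ← toMat_oneN, ← toMat_mulN, ← toMat_mulN, ← toMat_xor]
    exact congrArg (toMat 112) (Nat.eq_of_beq_eq_true (by decide +kernel))
  · rw [projM, ← toMat_mulN]
    exact congrArg (toMat 112) (Nat.eq_of_beq_eq_true (by decide +kernel))
  · obtain ⟨h1, h2, h3⟩ := kM_rows
    rw [← card_projM 15 (by norm_num)]
    have hmem : ∀ u : Vec, u ᵥ* toMat 112 fr_k ᵥ* kM = 0 := by
      intro u
      have hp : projM 112 = 1 := toMat_oneN 112
      rw [hp, mul_one] at h1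
      rw [Matrix.vecMul_vecMul, h1, Matrix.vecMul_zero]
    refine Nat.card_le_card_of_injective
      (fun u : {u : Vec // u ᵥ* projM 15 = u} =>
        (⟨u.1 ᵥ* toMat 112 fr_k, hmem u.1⟩ : {v : Vec // v ᵥ* kM = 0})) ?_
    intro u v h
    have h4 := congrArg (fun w : Vec => w ᵥ* toMat 112 tK) (Subtype.mk.inj h)
    simp only [Matrix.vecMul_vecMul, h3, u.2, v.2] at h4
    exact Subtype.ext h4

end Cfsg.Agent.H45.J4Inv
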