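import Mathlib

/-!
General facts: elements of a group generated by a pair with central commutator, Sylow subgroups of
prime order, normalisers acting on subgroups of prime order.
-/

set_option autoImplicit false

namespace Cfsg.Agent.H45.J4Inv

section Heis

variable {G : Type*} [Group G] {p q c : G}

/-- the set of normal forms `p ^ i * q ^ j * c ^ l` is a subgroup, given the commutator relations -/
theorem heis_form (hpc : Commute p c) (hqc : Commute q c) (hpq : q * p = p * q * c⁻¹)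
    (hp : p ^ 11 = 1) (hq : q ^ 11 = 1) (hc : c ^ 11 = 1) {e : G}
    (he : e ∈ Subgroup.closure {p, q, c}) :
    ∃ i j l : ℕ, e = p ^ i * q ^ j * c ^ l := by
  have hci : c⁻¹ = c ^ 10 := inv_eq_of_mul_eq_one_left (by rw [← pow_succ]; exact hc)
  have hqp : ∀ j, ∃ l, q ^ j * p = p * q ^ j * c ^ l := by
    intro j
    induction j with
    | zero => exact ⟨0, by simp⟩
    | succ j ih =>
      obtain ⟨l, hl⟩ := ih
      refine ⟨l + 10, ?_⟩
      calc q ^ (j + 1) * p = q * (q ^ j * p) := by rw [pow_succ', mul_assoc]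
        _ = q * p * q ^ j * c ^ l := by rw [hl]; group
        _ = p * q * (c ^ 10 * q ^ j) * c ^ l := by rw [hpq, hci]; group
        _ = p * q * (q ^ j * c ^ 10) * c ^ l := by rw [(hqc.pow_pow j 10).eq]
        _ = p * q ^ (j + 1) * c ^ (l + 10) := by
          rw [pow_succ' q j, Nat.add_comm l 10, pow_add]
          group
  induction he using Subgroup.closure_induction_right with
  | one => exact ⟨0, 0, 0, by simp⟩
  | mul_right x _ y hy ih =>
    obtain ⟨i, j, l, rfl⟩ := ih
    simp only [Set.mem_insert_iff, Set.mem_singleton_iff] at hy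
    rcases hy with hy | hy | hy <;> rw [hy]
    · obtain ⟨m, hm⟩ := hqp j
      refine ⟨i + 1, j, m + l, ?_⟩
      calc p ^ i * q ^ j * c ^ l * p = p ^ i * (q ^ j * p) * c ^ l := by
            rw [mul_assoc _ (c ^ l) p, (hpc.pow_right l).symm.eq]; group
        _ = p ^ (i + 1) * q ^ j * c ^ (m + l) := by
            rw [hm, pow_succ, pow_add]; group
    · refine ⟨i, j + 1, l, ?_⟩
      rw [mul_assoc _ (c ^ l) q, (hqc.pow_right l).symm.eq, pow_succ]
      group
    · exact ⟨i, j, l + 1, by rw [pow_succ]; group⟩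
  | mul_inv_cancel x _ y hy ih =>
    obtain ⟨i, j, l, rfl⟩ := ih
    simp only [Set.mem_insert_iff, Set.mem_singleton_iff] at hy
    rcases hy with hy | hy | hy <;> rw [hy]
    · have hpi : p⁻¹ = p ^ 10 := inv_eq_of_mul_eq_one_left (by rw [← pow_succ]; exact hp)
      have hall : ∀ k, ∃ m, p ^ i * q ^ j * c ^ l * p ^ k = p ^ (i + k) * q ^ j * c ^ m := by
        intro k
        induction k with
        | zero => exact ⟨l, by simp⟩
        | succ k ih =>
          obtain ⟨m, hm⟩ := ih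
          obtain ⟨n, hn⟩ := hqp j
          refine ⟨n + m, ?_⟩
          calc p ^ i * q ^ j * c ^ l * p ^ (k + 1)
              = p ^ (i + k) * q ^ j * (c ^ m * p) := by rw [pow_succ, ← mul_assoc, hm]; group
            _ = p ^ (i + k) * (q ^ j * p) * c ^ m := by rw [(hpc.pow_right m).symm.eq]; group
            _ = p ^ (i + (k + 1)) * q ^ j * c ^ (n + m) := by
              rw [hn, ← add_assoc, pow_succ, pow_add]; group
      obtain ⟨m, hm⟩ := hall 10
      exact ⟨i + 10, j, m, by rw [hpi]; exact hm⟩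
    · have hqi : q⁻¹ = q ^ 10 := inv_eq_of_mul_eq_one_left (by rw [← pow_succ]; exact hq)
      refine ⟨i, j + 10, l, ?_⟩
      rw [hqi, mul_assoc _ (c ^ l), ((hqc.pow_pow 10 l)).symm.eq, pow_add]
      group
    · exact ⟨i, j, l + 10, by rw [hci, pow_add]; group⟩

/-- every element of the generated group is central-type or conjugate to a power of a standard one -/
theorem heis_conj (hpc : Commute p c) (hqc : Commute q c) (hpq : q * p = p * q * c⁻¹)
    (hp : p ^ 11 = 1) (hq : q ^ 11 = 1) (hc : c ^ 11 = 1) {e : G}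
    (he : e ∈ Subgroup.closure {p, q, c}) :
    (∃ l, e = c ^ l) ∨ (∃ g k, ¬ 11 ∣ k ∧ e = g * q ^ k * g⁻¹) ∨
      (∃ g k, ∃ j : Fin 11, ¬ 11 ∣ k ∧ e = g * (p * q ^ (j : ℕ)) ^ k * g⁻¹) := by
  obtain ⟨i, j, l, rfl⟩ := heis_form hpc hqc hpq hp hq hc he
  have hqpq : ∀ m, q ^ m * p * (q ^ m)⁻¹ = p * (c⁻¹) ^ m := by
    intro m
    induction m with
    | zero => simp
    | succ m ih =>
      calc q ^ (m + 1) * p * (q ^ (m + 1))⁻¹ = q * (q ^ m * p * (q ^ m)⁻¹) * q⁻¹ := by group
        _ = q * p * ((c⁻¹) ^ m * q⁻¹) := by rw [ih]; group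
        _ = q * p * (q⁻¹ * (c⁻¹) ^ m) := by
          rw [((hqc.inv_right.inv_left).pow_right m).symm.eq]
        _ = p * q * (c⁻¹ * q⁻¹) * (c⁻¹) ^ m := by rw [hpq]; group
        _ = p * (c⁻¹) ^ (m + 1) := by
          rw [(hqc.inv_right.inv_left).symm.eq, pow_succ']; group
  have hmod : ∀ (g : G) (n : ℕ), g ^ 11 = 1 → g ^ n = g ^ (n % 11) := fun g n hg => pow_eq_pow_mod n hg
  by_cases hi : i % 11 = 0
  · have hpi : p ^ i = 1 := by rw [hmod p i hp, hi, pow_zero]
    rw [hpi, one_mul]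
    by_cases hj : j % 11 = 0
    · exact Or.inl ⟨l, by rw [hmod q j hq, hj, pow_zero, one_mul]⟩
    · refine Or.inr (Or.inl ?_)
      obtain ⟨m, -, hm⟩ := Nat.exists_mul_mod_eq_one_of_coprime
        (Nat.coprime_comm.1 ((Nat.Prime.coprime_iff_not_dvd (by norm_num)).2
          (show ¬ 11 ∣ j by omega))) (show 1 < 11 by norm_num)
      refine ⟨p ^ (l * m), j, by omega, ?_⟩
      have hconj : ∀ n, p ^ n * q * (p ^ n)⁻¹ = q * c ^ n := by
        intro n
        induction n with
        | zero => simp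
        | succ n ih =>
          have h1 : p * q * p⁻¹ = q * c := by
            calc p * q * p⁻¹ = (p * q * c⁻¹) * c * p⁻¹ := by group
              _ = q * p * c * p⁻¹ := by rw [hpq]
              _ = q * (p * c) * p⁻¹ := by group
              _ = q * c := by rw [hpc.eq]; group
          calc p ^ (n + 1) * q * (p ^ (n + 1))⁻¹ = p * (p ^ n * q * (p ^ n)⁻¹) * p⁻¹ := by group
            _ = p * q * (c ^ n * p⁻¹) := by rw [ih]; group
            _ = p * q * (p⁻¹ * c ^ n) := by rw [((hpc.inv_left).pow_right n).symm.eq]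
            _ = q * c ^ (n + 1) := by rw [← mul_assoc, h1, pow_succ']; group
      rw [← conj_pow, hconj, hqc.pow_right _ |>.mul_pow, ← pow_mul]
      congr 1
      rw [hmod c l hc, hmod c (l * m * j) hc]
      congr 1
      rw [Nat.mul_assoc, Nat.mul_mod, Nat.mul_comm m j, hm, Nat.mul_one, Nat.mod_mod]
  · refine Or.inr (Or.inr ?_)
    obtain ⟨m, -, hm⟩ := Nat.exists_mul_mod_eq_one_of_coprime
      (Nat.coprime_comm.1 ((Nat.Prime.coprime_iff_not_dvd (by norm_num)).2
        (show ¬ 11 ∣ i by omega))) (show 1 < 11 by norm_num)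
    set jj : Fin 11 := ⟨j * m % 11, Nat.mod_lt _ (by norm_num)⟩
    -- the power of the representative
    have hpow : ∀ k, ∃ n, (p * q ^ (jj : ℕ)) ^ k = p ^ k * q ^ ((jj : ℕ) * k) * c ^ n := by
      intro k
      have hmem : (p * q ^ (jj : ℕ)) ^ k ∈ Subgroup.closure {p, q, c} := by
        refine Subgroup.pow_mem _ (Subgroup.mul_mem _ ?_ (Subgroup.pow_mem _ ?_ _)) _ <;>
          exact Subgroup.subset_closure (by simp)
      induction k with
      | zero => exact ⟨0, by simp⟩
      | succ k ih =>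
        obtain ⟨n, hn⟩ := ih (Subgroup.pow_mem _ (Subgroup.mul_mem _
          (Subgroup.subset_closure (by simp)) (Subgroup.pow_mem _ (Subgroup.subset_closure (by simp)) _)) _)
        have hci : c⁻¹ = c ^ 10 := inv_eq_of_mul_eq_one_left (by rw [← pow_succ]; exact hc)
        have hswap : q ^ ((jj : ℕ) * k) * p = p * q ^ ((jj : ℕ) * k) * c ^ (10 * ((jj : ℕ) * k)) := by
          calc q ^ ((jj : ℕ) * k) * p
              = q ^ ((jj : ℕ) * k) * p * (q ^ ((jj : ℕ) * k))⁻¹ * q ^ ((jj : ℕ) * k) := by group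
            _ = p * (c ^ (10 * ((jj : ℕ) * k)) * q ^ ((jj : ℕ) * k)) := by
              rw [hqpq, hci, ← pow_mul]; group
            _ = p * q ^ ((jj : ℕ) * k) * c ^ (10 * ((jj : ℕ) * k)) := by
              rw [← (hqc.pow_pow _ _).eq]; group
        refine ⟨10 * ((jj : ℕ) * k) + n, ?_⟩
        calc (p * q ^ (jj : ℕ)) ^ (k + 1)
            = p ^ k * q ^ ((jj : ℕ) * k) * (c ^ n * (p * q ^ (jj : ℕ))) := by
              rw [pow_succ, hn]; group
          _ = p ^ k * q ^ ((jj : ℕ) * k) * (p * q ^ (jj : ℕ) * c ^ n) := by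
              rw [((hpc.mul_left (hqc.pow_left _)).pow_right n).symm.eq]
          _ = p ^ k * (q ^ ((jj : ℕ) * k) * p) * q ^ (jj : ℕ) * c ^ n := by group
          _ = p ^ k * p * q ^ ((jj : ℕ) * k) * (c ^ (10 * ((jj : ℕ) * k)) * q ^ (jj : ℕ)) * c ^ n := by
              rw [hswap]; group
          _ = p ^ (k + 1) * q ^ ((jj : ℕ) * (k + 1)) * c ^ (10 * ((jj : ℕ) * k) + n) := by
              rw [← (hqc.pow_pow (jj : ℕ) _).eq, pow_succ, Nat.mul_succ, pow_add, pow_add]; group
    obtain ⟨n, hn⟩ := hpow i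
    refine ⟨q ^ ((n + 10 * l) * m), i, jj, by omega, ?_⟩
    have hcomm : Commute (p * q ^ (jj : ℕ)) (c⁻¹ ^ ((n + 10 * l) * m)) :=
      ((hpc.mul_left (hqc.pow_left _)).inv_right).pow_right _
    have hconj2 : q ^ ((n + 10 * l) * m) * (p * q ^ (jj : ℕ)) * (q ^ ((n + 10 * l) * m))⁻¹ =
        p * q ^ (jj : ℕ) * c⁻¹ ^ ((n + 10 * l) * m) := by
      calc q ^ ((n + 10 * l) * m) * (p * q ^ (jj : ℕ)) * (q ^ ((n + 10 * l) * m))⁻¹
          = (q ^ ((n + 10 * l) * m) * p * (q ^ ((n + 10 * l) * m))⁻¹) * q ^ (jj : ℕ) := by group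
        _ = p * (c⁻¹ ^ ((n + 10 * l) * m) * q ^ (jj : ℕ)) := by rw [hqpq]; group
        _ = p * q ^ (jj : ℕ) * c⁻¹ ^ ((n + 10 * l) * m) := by
          rw [← ((hqc.inv_right).pow_pow _ _).eq]; group
    have hci : c⁻¹ = c ^ 10 := inv_eq_of_mul_eq_one_left (by rw [← pow_succ]; exact hc)
    rw [← conj_pow, hconj2, hcomm.mul_pow, hn, hci, ← pow_mul, ← pow_mul, mul_assoc _ (c ^ n),
      ← pow_add]
    congr 1
    · congr 1
      rw [hmod q j hq, hmod q ((jj : ℕ) * i) hq]
      congr 1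
      show j % 11 = j * m % 11 * i % 11
      rw [Nat.mul_mod, Nat.mod_mod, ← Nat.mul_mod, Nat.mul_assoc, Nat.mul_comm m i, Nat.mul_mod j,
        hm, Nat.mul_one, Nat.mod_mod]
    · rw [hmod c l hc, hmod c (n + _) hc]
      congr 1
      have h1 : (n + 10 * l) * m * i % 11 = (n + 10 * l) % 11 := by
        rw [Nat.mul_assoc, Nat.mul_comm m i, Nat.mul_mod, hm, Nat.mul_one, Nat.mod_mod]
      have h2 : (n + 10 * ((n + 10 * l) * m * i)) % 11 = (n + 10 * (n + 10 * l)) % 11 := by
        rw [Nat.add_mod, Nat.mul_mod, h1, ← Nat.mul_mod, ← Nat.add_mod]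
      omega

end Heis

/-- subgroups of prime order in a group whose order is divisible by `p` once are conjugate -/
theorem exists_conj_of_prime {G : Type*} [Group G] [Finite G] {p : ℕ} [hp : Fact p.Prime]
    (h2 : ¬ p ^ 2 ∣ Nat.card G) {a b : G} (ha : orderOf a = p) (hb : orderOf b = p) :
    ∃ (g : G) (k : ℕ), ¬ p ∣ k ∧ b = g * a ^ k * g⁻¹ := by
  have hdvd : p ∣ Nat.card G := ha ▸ orderOf_dvd_natCard a
  have hfac : (Nat.card G).factorization p = 1 := by
    refine le_antisymm ?_ (hp.out.factorization_pos_of_dvd Nat.card_pos.ne' hdvd)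
    by_contra hlt
    exact h2 ((hp.out.pow_dvd_iff_le_factorization Nat.card_pos.ne').2 (by omega))
  have hA : Nat.card (Subgroup.zpowers a) = p ^ (Nat.card G).factorization p := by
    rw [Nat.card_zpowers, ha, hfac, pow_one]
  have hB : Nat.card (Subgroup.zpowers b) = p ^ (Nat.card G).factorization p := by
    rw [Nat.card_zpowers, hb, hfac, pow_one]
  obtain ⟨g, hg⟩ := MulAction.exists_smul_eq G (Sylow.ofCard _ hA) (Sylow.ofCard _ hB)
  have hmem : b ∈ ((g • Sylow.ofCard _ hA : Sylow p G) : Subgroup G) := by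
    rw [hg, Sylow.coe_ofCard]; exact Subgroup.mem_zpowers b
  rw [Sylow.coe_subgroup_smul, Sylow.coe_ofCard] at hmem
  obtain ⟨x, hx, rfl⟩ := hmem
  obtain ⟨k, rfl⟩ := (isOfFinOrder_of_finite a).mem_powers_iff_mem_zpowers.2 hx
  refine ⟨g, k, fun hk => ?_, rfl⟩
  obtain ⟨m, rfl⟩ := hk
  have h1 : a ^ (p * m) = 1 := by
    rw [pow_mul, show a ^ p = 1 from ha ▸ pow_orderOf_eq_one a, one_pow]
  simp only [h1, MulDistribMulAction.toMonoidEnd_apply, MulDistribMulAction.toMonoidHom_apply,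
    smul_one, orderOf_one] at hb
  exact hp.out.one_lt.ne' hb.symm

/-- every element of a `p`-subgroup is conjugate into a given Sylow `p`-subgroup -/
theorem exists_conj_mem {G : Type*} [Group G] [Finite G] {p : ℕ} [Fact p.Prime] (P R : Subgroup G)
    (hP : Nat.card P = p ^ (Nat.card G).factorization p) (hR : IsPGroup p R) :
    ∃ g : G, ∀ e ∈ R, g * e * g⁻¹ ∈ P := by
  obtain ⟨S, hS⟩ := hR.exists_le_sylow
  obtain ⟨g, hg⟩ := MulAction.exists_smul_eq G S (Sylow.ofCard P hP)
  refine ⟨g, fun e he => ?_⟩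
  have h : g * e * g⁻¹ ∈ ((g • S : Sylow p G) : Subgroup G) := by
    rw [Sylow.coe_subgroup_smul]
    exact ⟨e, hS he, rfl⟩
  rwa [hg, Sylow.coe_ofCard] at h

/-- an element of prime order `p` normalising `⟨r⟩` of prime order `q < p` centralises it -/
theorem commute_of_normalize {G : Type*} [Group G] {p q : ℕ} (hp : p.Prime) (hq : q.Prime)
    (hpq : q ≤ p) {a r : G} (ha : a ^ p = 1) (hr : orderOf r = q)
    (hn : a * r * a⁻¹ ∈ Subgroup.zpowers r) : Commute a r := by
  haveI : Fact q.Prime := ⟨hq⟩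
  have hfin : IsOfFinOrder r := orderOf_pos_iff.1 (hr ▸ hq.pos)
  obtain ⟨k, hk⟩ := hfin.mem_powers_iff_mem_zpowers.2 hn
  simp only at hk
  have hiter : ∀ n, a ^ n * r * (a ^ n)⁻¹ = r ^ (k ^ n) := by
    intro n
    induction n with
    | zero => simp
    | succ n ih =>
      calc a ^ (n + 1) * r * (a ^ (n + 1))⁻¹ = a * (a ^ n * r * (a ^ n)⁻¹) * a⁻¹ := by group
        _ = (a * r * a⁻¹) ^ (k ^ n) := by rw [ih, conj_pow]
        _ = r ^ (k ^ (n + 1)) := by rw [← hk, ← pow_mul, pow_succ']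
  have h1 := hiter p
  rw [ha, inv_one, mul_one, one_mul] at h1
  nth_rewrite 1 [← pow_one r] at h1
  have h2 : (1 : ZMod q) = (k : ZMod q) ^ p := by
    have := (pow_eq_pow_iff_modEq.1 h1)
    rw [hr, ← ZMod.natCast_eq_natCast_iff] at this
    push_cast at this
    exact this
  have hk0 : (k : ZMod q) ≠ 0 := by
    intro h
    rw [h, zero_pow hp.ne_zero] at h2
    exact one_ne_zero h2
  have h3 : orderOf (k : ZMod q) ∣ q - 1 := ZMod.orderOf_dvd_card_sub_one hk0
  have h4 : orderOf (k : ZMod q) = 1 := by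
    rcases hp.eq_one_or_self_of_dvd _ (orderOf_dvd_of_pow_eq_one h2.symm) with h | h
    · exact h
    · have h5 := hq.two_le
      have h6 : orderOf (k : ZMod q) ≤ q - 1 := Nat.le_of_dvd (by omega) h3
      rw [h] at h6
      omega
  have h5 : r ^ k = r := by
    nth_rewrite 2 [← pow_one r]
    rw [pow_eq_pow_iff_modEq, hr, ← ZMod.natCast_eq_natCast_iff]
    simpa [orderOf_eq_one_iff] using h4
  rw [h5] at hk
  exact mul_inv_eq_iff_eq_mul.1 hk.symm

end Cfsg.Agent.H45.J4Inv
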