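import Cfsg.Agent.H45.J4Inv.Cert
import Cfsg.Agent.H45.J4Inv.Group

/-!
Fixed vectors of elements of prime order: congruences, and the space of commutators with the
involution.
-/

set_option autoImplicit false
set_option maxRecDepth 100000

namespace Cfsg.Agent.H45.J4Inv

open scoped Matrix
open Cfsg.Agent.H45 Cfsg.Agent.H45.J4Mat Cfsg.Agent.H45.J4Rep Cfsg.Agent.H46.J4Out

/-- a group of `p`-power order permuting a set of vectors -/
theorem card_modEq_fixed {p : ℕ} [Fact p.Prime] (A : Subgroup J) (hA : IsPGroup p A) (S : Set Vec)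
    (hS : ∀ g ∈ A, ∀ v ∈ S, act v g ∈ S) :
    Nat.card S ≡ Nat.card {v : Vec // v ∈ S ∧ ∀ g ∈ A, act v g = v} [MOD p] := by
  letI : MulAction A S :=
    { smul := fun g v => ⟨act v.1 (g : J)⁻¹, hS _ (inv_mem g.2) _ v.2⟩
      one_smul := fun v => Subtype.ext (by
        change act v.1 ((1 : A) : J)⁻¹ = v.1
        simp [act_one])
      mul_smul := fun g h v => Subtype.ext (by
        change act v.1 ((g * h : A) : J)⁻¹ = act (act v.1 (h : J)⁻¹) (g : J)⁻¹
        rw [← act_mul, Subgroup.coe_mul, mul_inv_rev]) }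
  refine (hA.card_modEq_card_fixedPoints (α := S)).trans (congrArg (· % p) ?_)
  refine Nat.card_congr
    { toFun := fun v => ⟨v.1.1, v.1.2, fun g hg => ?_⟩
      invFun := fun v => ⟨⟨v.1, v.2.1⟩, fun g => Subtype.ext (v.2.2 _ (inv_mem g.2))⟩
      left_inv := fun _ => rfl
      right_inv := fun _ => rfl }
  have h := congrArg Subtype.val (v.2 (⟨g, hg⟩ : A)⁻¹)
  change act v.1.1 (((⟨g, hg⟩ : A)⁻¹ : A) : J)⁻¹ = v.1.1 at h
  simpa using h

/-- one element of prime order permuting a set of vectors -/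
theorem card_modEq_fix {p : ℕ} [Fact p.Prime] {a : J} (ha : a ^ p = 1) (S : Set Vec)
    (hS : ∀ v ∈ S, act v a ∈ S) :
    Nat.card S ≡ Nat.card {v : Vec // v ∈ S ∧ act v a = v} [MOD p] := by
  have hpos : 0 < p := (Fact.out : p.Prime).pos
  have hA : IsPGroup p (Subgroup.zpowers a) := by
    intro g
    refine ⟨1, ?_⟩
    obtain ⟨k, hk⟩ := g.2
    apply Subtype.ext
    simp only [pow_one, SubgroupClass.coe_pow, ← hk, OneMemClass.coe_one]
    rw [← zpow_natCast, ← zpow_mul, mul_comm, zpow_mul, zpow_natCast, ha, one_zpow]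
  have hfin : IsOfFinOrder a := isOfFinOrder_iff_pow_eq_one.2 ⟨p, hpos, ha⟩
  have hclosed : ∀ g ∈ Subgroup.zpowers a, ∀ v ∈ S, act v g ∈ S := by
    intro g hg v hv
    obtain ⟨k, rfl⟩ := hfin.mem_powers_iff_mem_zpowers.2 hg
    simp only
    induction k with
    | zero => rw [pow_zero, act_one]; exact hv
    | succ k ih => rw [pow_succ, act_mul]; exact hS _ (ih (pow_mem (Subgroup.mem_zpowers a) k))
  refine (card_modEq_fixed _ hA S hclosed).trans (congrArg (· % p) (Nat.card_congr
    (Equiv.subtypeEquivRight fun v => and_congr_right fun _ => ⟨fun h => h a (Subgroup.mem_zpowers a),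
      fun h g hg => ?_⟩)))
  obtain ⟨k, rfl⟩ := hfin.mem_powers_iff_mem_zpowers.2 hg
  exact mem_stab_pow h k

/-- multiplication by the involution plus one -/
noncomputable def toW : Vec →+ Vec where
  toFun v := v ᵥ* zM
  map_zero' := Matrix.zero_vecMul _
  map_add' u v := Matrix.add_vecMul _ _ _

/-- the image -/
noncomputable def Wsp : AddSubgroup Vec := toW.range

theorem card_Wsp : Nat.card Wsp = 2 ^ 50 := by
  rw [← card_range_zM]
  exact Nat.card_congr (Equiv.setCongr rfl)

theorem zM_comm {a : J} (ha : Commute a zz) (v : Vec) : act (toW v) a = toW (act v a) := by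
  have h : ((rho zz : GL112) : Mx) = toMat 112 zzN := r_zz
  have hc : ((rho zz : GL112) : Mx) * ((rho a : GL112) : Mx) =
      ((rho a : GL112) : Mx) * ((rho zz : GL112) : Mx) := by
    rw [← Units.val_mul, ← Units.val_mul, ← map_mul, ← map_mul, ha.eq]
  change v ᵥ* zM ᵥ* _ = v ᵥ* _ ᵥ* zM
  rw [zM, ← h, Matrix.vecMul_vecMul, Matrix.vecMul_vecMul, add_mul, mul_add, one_mul, mul_one, hc]

/-- vectors fixed by `a` -/
noncomputable def fixV (a : J) : AddSubgroup Vec where
  carrier := {v | act v a = v}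
  zero_mem' := act_zero a
  add_mem' {u v} hu hv := by
    change act (u + v) a = u + v
    rw [act_add, hu, hv]
  neg_mem' {u} hu := by
    change act (-u) a = -u
    rw [act, Matrix.neg_vecMul, ← act, hu]

theorem card_fixV (a : J) : Nat.card (fixV a) = fixCard a := rfl

theorem exists_pow_card (A : AddSubgroup Vec) : ∃ j, Nat.card A = 2 ^ j := by
  have h : Nat.card A ∣ 2 ^ 112 := by
    have := A.card_addSubgroup_dvd_card
    rwa [show Nat.card Vec = 2 ^ 112 by
      rw [Nat.card_fun, Nat.card_eq_fintype_card, ZMod.card, Nat.card_eq_fintype_card,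
        Fintype.card_fin]] at this
  obtain ⟨j, -, hj⟩ := (Nat.dvd_prime_pow Nat.prime_two).1 h
  exact ⟨j, hj⟩

theorem add_self_vec (v : Vec) : v + v = 0 := funext fun _ => CharTwo.add_self_eq_zero _

/-- the fixed vectors in the image: their number is `2 ^ j` with `2j` small -/
theorem fix_Wsp (hf₀ : Faithful) {a : J} (hc : Commute a zz) {p : ℕ} (hp : p.Prime) (hodd : p ≠ 2) (ha : a ^ p = 1)
    {f : ℕ} (hf : fixCard a ≤ 2 ^ f) :
    ∃ j, 2 * j ≤ f ∧ 2 ^ 50 ≡ 2 ^ j [MOD p] ∧ Nat.card ↥(fixV a ⊓ Wsp) = 2 ^ j := by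
  haveI := Fact.mk hp
  obtain ⟨j, hj⟩ := exists_pow_card (fixV a ⊓ Wsp)
  refine ⟨j, ?_, ?_, hj⟩
  · -- surjective from the fixed vectors
    have hhalf : ∀ w ∈ fixV a ⊓ Wsp, ∃ u, u ∈ fixV a ∧ toW u = w := by
      rintro w ⟨hw, v, rfl⟩
      refine ⟨∑ i ∈ Finset.range p, act v (a ^ i), ?_, ?_⟩
      · change act (∑ i ∈ Finset.range p, act v (a ^ i)) a = _
        rw [act, Matrix.sum_vecMul]
        have h1 : ∀ i, act v (a ^ i) ᵥ* ((rho a : GL112) : Mx) = act v (a ^ (i + 1)) := fun i => by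
          rw [pow_succ, act_mul]; rfl
        simp only [h1]
        have h2 := Finset.sum_range_succ' (fun i => act v (a ^ i)) p
        rw [Finset.sum_range_succ (fun i => act v (a ^ i)) p, ha, pow_zero] at h2
        exact (add_right_cancel h2).symm
      · rw [map_sum]
        have h1 : ∀ i, toW (act v (a ^ i)) = toW v := fun i => by
          rw [← zM_comm (hc.pow_left i)]
          exact mem_stab_pow hw i
        simp only [h1, Finset.sum_const, Finset.card_range]
        obtain ⟨k, hk⟩ := hp.odd_of_ne_two hodd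
        rw [hk, add_nsmul, mul_comm, mul_nsmul, one_nsmul]
        simp [add_self_vec]
        rw [two_mul, add_self_vec]
    let φ : fixV a →+ Vec := toW.comp (fixV a).subtype
    have hrange : φ.range = fixV a ⊓ Wsp := by
      ext w
      constructor
      · rintro ⟨v, rfl⟩
        refine ⟨?_, ⟨v.1, rfl⟩⟩
        change act (toW v.1) a = toW v.1
        rw [zM_comm hc, v.2]
      · intro hw
        obtain ⟨u, hu, rfl⟩ := hhalf w hw
        exact ⟨⟨u, hu⟩, rfl⟩
    have hz2 : zz * zz = 1 → ∀ v, toW (toW v) = 0 := by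
      intro h2 v
      have h : ((rho zz : GL112) : Mx) = toMat 112 zzN := r_zz
      have hsq : toMat 112 zzN * toMat 112 zzN = 1 := by
        rw [← h, ← Units.val_mul, ← map_mul, h2, map_one, Units.val_one]
      change v ᵥ* zM ᵥ* zM = 0
      rw [Matrix.vecMul_vecMul, zM, add_mul, mul_add, one_mul, mul_one, hsq, ← add_assoc,
        add_assoc (1 : Mx)]
      have : ∀ A : Mx, A + A = 0 := fun A => by ext i k; exact CharTwo.add_self_eq_zero _
      rw [this, add_zero, this, Matrix.vecMul_zero]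
    have hker : Nat.card ↥(fixV a ⊓ Wsp) ≤ Nat.card φ.ker := by
      refine Nat.card_le_card_of_injective (fun w => (⟨⟨w.1, w.2.1⟩, ?_⟩ : φ.ker)) ?_
      · obtain ⟨v, hv⟩ := w.2.2
        change toW w.1 = 0
        rw [← hv]
        exact hz2 (eF_sq hf₀ 0) v
      · intro u v h
        exact Subtype.ext (congrArg (fun q : φ.ker => q.1.1) h)
    have hprod := φ.ker.index_mul_card
    rw [AddSubgroup.index_ker, hrange, hj, card_fixV] at hprod
    have h2 : 2 ^ j * 2 ^ j ≤ 2 ^ f := by
      refine le_trans ?_ hf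
      rw [← hprod]
      exact Nat.mul_le_mul_left _ (hj ▸ hker)
    rw [← pow_add, Nat.pow_le_pow_iff_right one_lt_two] at h2
    omega
  · have h := card_modEq_fix ha (Wsp : Set Vec) (by
      rintro _ ⟨v, rfl⟩
      exact ⟨act v a, (zM_comm hc v).symm⟩)
    rw [show Nat.card (Wsp : Set Vec) = 2 ^ 50 from card_Wsp] at h
    refine h.trans (congrArg (· % p) ?_)
    rw [← hj]
    exact Nat.card_congr (Equiv.subtypeEquivRight fun v => ⟨fun h => ⟨h.2, h.1⟩, fun h => ⟨h.2, h.1⟩⟩)

end Cfsg.Agent.H45.J4Inv
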