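import Cfsg.Agent.H45.J4Inv.Nodes3

/-!
Generated data: named elements, orbit, hexads and tables.
-/

set_option autoImplicit false
set_option maxRecDepth 100000

namespace Cfsg.Agent.H45.J4Inv

open Cfsg.Agent.H45 Cfsg.Agent.H46.J4Out

/-- A of M22 -/
noncomputable abbrev gA : J := v1
/-- matrix -/
abbrev gAN : ℕ := m1
theorem r_gA : R gA gAN := p1
/-- B of M22 -/
noncomputable abbrev gB : J := v22
/-- matrix -/
abbrev gBN : ℕ := m22
theorem r_gB : R gB gBN := p22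
/-- outer element -/
noncomputable abbrev gO : J := v26
/-- matrix -/
abbrev gON : ℕ := m26
theorem r_gO : R gO gON := p26
/-- order 11 -/
noncomputable abbrev gr : J := v141
/-- matrix -/
abbrev grN : ℕ := m141
theorem r_gr : R gr grN := p141
/-- order 3 -/
noncomputable abbrev gk : J := v146
/-- matrix -/
abbrev gkN : ℕ := m146
theorem r_gk : R gk gkN := p146
/-- first generator of a Sylow 11 -/
noncomputable abbrev pP : J := v5
/-- matrix -/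
abbrev pPN : ℕ := m5
theorem r_pP : R pP pPN := p5
/-- second generator -/
noncomputable abbrev qP : J := v222
/-- matrix -/
abbrev qPN : ℕ := m222
theorem r_qP : R qP qPN := p222
/-- their commutator -/
noncomputable abbrev cP : J := v227
/-- matrix -/
abbrev cPN : ℕ := m227
theorem r_cP : R cP cPN := p227
/-- order 23 -/
noncomputable abbrev eUU : J := v6
/-- matrix -/
abbrev eUUN : ℕ := m6
theorem r_eUU : R eUU eUUN := p6
/-- the involution -/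
noncomputable abbrev zz : J := v4
/-- matrix -/
abbrev zzN : ℕ := m4
theorem r_zz : R zz zzN := p4
/-- order 29 -/
noncomputable abbrev a29 : J := v162
/-- matrix -/
abbrev a29N : ℕ := m162
theorem r_a29 : R a29 a29N := p162
/-- order 31 -/
noncomputable abbrev a31 : J := v154
/-- matrix -/
abbrev a31N : ℕ := m154
theorem r_a31 : R a31 a31N := p154
/-- order 37 -/
noncomputable abbrev a37 : J := v148
/-- matrix -/
abbrev a37N : ℕ := m148
theorem r_a37 : R a37 a37N := p148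
/-- order 43 -/
noncomputable abbrev a43 : J := v168
/-- matrix -/
abbrev a43N : ℕ := m168
theorem r_a43 : R a43 a43N := p168
/-- basis of the extraspecial group -/
noncomputable def qq : ℕ → J
  | 0 => v34
  | 1 => v111
  | 2 => v119
  | 3 => v126
  | 4 => v132
  | 5 => v137
  | 6 => v40
  | 7 => v57
  | 8 => v121
  | 9 => v123
  | 10 => v134
  | 11 => v139
  | _ => 1
/-- matrices -/
def qqN : ℕ → ℕ
  | 0 => m34
  | 1 => m111
  | 2 => m119
  | 3 => m126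
  | 4 => m132
  | 5 => m137
  | 6 => m40
  | 7 => m57
  | 8 => m121
  | 9 => m123
  | 10 => m134
  | 11 => m139
  | _ => J4Mat.oneN 112 112
theorem r_qq : ∀ k, R (qq k) (qqN k)
  | 0 => p34
  | 1 => p111
  | 2 => p119
  | 3 => p126
  | 4 => p132
  | 5 => p137
  | 6 => p40
  | 7 => p57
  | 8 => p121
  | 9 => p123
  | 10 => p134
  | 11 => p139
  | _ + 12 => R_one
/-- representatives of lines -/
noncomputable def rep : ℕ → J
  | 0 => v222
  | 1 => v5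
  | 2 => v228
  | 3 => v229
  | 4 => v230
  | 5 => v231
  | 6 => v232
  | 7 => v233
  | 8 => v234
  | 9 => v235
  | 10 => v236
  | 11 => v237
  | _ => 1
/-- matrices -/
def repN : ℕ → ℕ
  | 0 => m222
  | 1 => m5
  | 2 => m228
  | 3 => m229
  | 4 => m230
  | 5 => m231
  | 6 => m232
  | 7 => m233
  | 8 => m234
  | 9 => m235
  | 10 => m236
  | 11 => m237
  | _ => J4Mat.oneN 112 112
theorem r_rep : ∀ k, R (rep k) (repN k)
  | 0 => p222
  | 1 => p5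
  | 2 => p228
  | 3 => p229
  | 4 => p230
  | 5 => p231
  | 6 => p232
  | 7 => p233
  | 8 => p234
  | 9 => p235
  | 10 => p236
  | 11 => p237
  | _ + 12 => R_one
/-- the orbit -/
def orbL : List ℕ := [
  0xffffffff,
  0xcd231e9f7a8f61ee2e46565cf,
  0xfe88dd5daf9d79bcbf,
  0x3c772b53d8a9743d10b79318c,
  0xcd231e909202b434d86e3268f,
  0xcd231e9092025f94d79467c8f,
  0xcd231e9f7a8f8a4e21bc03fcf,
  0x1bf6d52c7bfb864ad0737,
  0xf154285cda0b0fa14700d70e6,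
  0x1d90782df1d276f448eaa,
  0xf154285cda0b0fa14e69be670,
  0xfe88d3e7af62dce6bf,
  0x3c7730a50d850f39953170588,
  0x3c772d3a9d252b311c7b3aefb,
  0x3c772b53d8a974c21c845fd40,
  0x1bf6d52c7bfb802349e51,
  0xf1542e3a770a6ed7b488d9fb8,
  0x1bf93da1ae217062b4477,
  0xcd231e909202b4cbd45dfea43,
  0x3c772d3a9d25c0911517f9d92,
  0xf154285cda0be4fe44c94e62a,
  0xf1542e3a770a6e28be2d83a1d,
  0xf1542e3a770a6ed7bb8829048,
  0x3c7730a50d850fc69f6b25022,
  0xcd2318f9d78e0098ddce58a91,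
  0xf15433a5e7aa4adf3dc2934cb,
  0x1d90782df12d7ac784266,
  0x3c7736cc4809bb9599f873f00,
  0x3c772b53d8a99f621c7efa8b0,
  0xcd2318f9d78eebc7d89157534,
  0xf15433a5e7aaa180379d6c49e,
  0x1d90782d1a7279f1124a5,
  0x3c7736cc480950ca95ce15633,
  0x1bf6d52c905b86b0752c7,
  0xf154285cda0be4fe425fd8f43,
  0xcd231e9f7a8f8ab12419a959a,
  0x1d90782d1a8d75c2de869,
  0x3c7736cc4809bb6a9ca2d655a,
  0xf15433a5e7aaa1803ef405208,
  0x1d90782d1a7276f1e2b55,
  0xcd2318f63f03d5422d8fa50b7,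
  0x1d90782d1a8d73ab4710f,
  0xcd2318f63f03d5bd28d500aed,
  0x1bf6d52c905b8f261345e,
  0xcd231e9092025f6bd45854fbc,
  0x1d90782df1d27f622e833,
  0x1d90782df12d7c5112b0f,
  0xf15435c34aabc009c7d9518f3,
  0x1d90782df12d7cae1db00,
  0xcd2318f9d78e0067defd649ad,
  0x3c772b53d8a99f9d1fb2c9b83,
  0x3c772d3a9d25c06e1624c5eae,
  0x3c7730a50d85e49995cbd5078,
  0x3c7730a50d85e466906e7fa2d,
  0xcd2318f63f033e1d2eb933674,
  0xfe88dd5daffbe025d9,
  0xf1542e3a770a6e28bed28ca12,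
  0xcd231e9f7a8f6111241c03065,
  0xcd2318f9d78eeb38d45d949f7,
  0x1d90782df1d2760b47ea5,
  0xf15435c34aabc0f6cb1592430,
  0x3c7736cc480950359f6b4f396,
  0x1bf93da1ae217f6244b87,
  0xfe88d3e7affbba8026,
  0x3c772d3a9d252bce10b7f9238,
  0x1d90782d1a8d7ac22e799,
  0xf15433a5e7aa4adf3b5405da2,
  0xcd2318f63f033ee2241c693d1,
  0x1bf93da1ae2176f422d1e,
  0xf15435c34aabc0f6c41562bc0,
  0x1bf93da1ae21760b2dd11,
  0x1d90782df12d7a388b269,
  0xf15435c34aabc009c7265e8fc,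
  0x1d90782d1a7270677423c,
  0x1d90782d1a727f6784dcc,
  0x1d90782df1d27f9d2183c,
  0x1d90782d1a8d7cabb7eff]
/-- right action of gA on the orbit -/
def movA : List ℕ := [0, 2, 4, 23, 1, 6, 11, 14, 19, 48, 51, 5, 7, 54, 12, 3, 17, 60, 57, 40, 64, 68, 62, 15, 37, 29, 9, 30, 52, 32, 49, 41, 25, 28, 13, 63, 31, 38, 24, 76, 8, 36, 10, 50, 35, 45, 71, 21, 26, 27, 53, 42, 33, 43, 34, 18, 70, 55, 61, 46, 16, 66, 69, 44, 67, 39, 58, 20, 47, 22, 72, 59, 56, 73, 74, 75, 65]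
/-- action of gA -/
def permA : List ℕ := [0, 4, 1, 15, 2, 11, 5, 12, 40, 26, 42, 6, 14, 34, 7, 23, 60, 16, 55, 8, 67, 47, 69, 3, 38, 32, 48, 49, 33, 25, 27, 36, 29, 52, 54, 44, 41, 24, 37, 65, 19, 31, 51, 53, 63, 45, 59, 68, 9, 30, 43, 10, 28, 50, 13, 57, 72, 18, 66, 71, 17, 58, 22, 35, 20, 76, 61, 64, 21, 62, 56, 46, 70, 73, 74, 75, 39]
/-- points of gA -/
def ptsA : List ℕ := [0, 14, 17, 2, 22, 1, 7, 9, 8, 6, 10, 11, 4, 16, 5, 19, 18, 3, 13, 21, 20, 15, 12, 23]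
/-- inverse points of gA -/
def iptsA : List ℕ := [0, 5, 3, 17, 12, 14, 9, 6, 8, 7, 10, 11, 22, 18, 1, 21, 13, 2, 16, 15, 20, 19, 4, 23]
/-- conjugation of the basis by gA -/
def cjA : List (ℕ × Bool) := [(417, true), (1824, true), (3740, true), (2281, true), (3910, false), (3056, true), (3496, false), (936, true), (2037, false), (884, false), (1078, true), (310, true)]
/-- right action of gB on the orbit -/
def movB : List ℕ := [45, 75, 70, 44, 68, 59, 62, 37, 41, 34, 50, 9, 71, 47, 27, 19, 26, 52, 66, 58, 38, 57, 23, 21, 39, 72, 0, 51, 76, 42, 48, 4, 35, 31, 40, 69, 32, 30, 3, 25, 11, 13, 5, 43, 20, 16, 14, 8, 7, 49, 10, 46, 61, 67, 6, 55, 56, 22, 63, 29, 53, 65, 73, 15, 64, 17, 18, 74, 33, 36, 28, 12, 24, 54, 60, 1, 2]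
/-- action of gB -/
def permB : List ℕ := [26, 75, 76, 38, 31, 42, 54, 48, 47, 11, 50, 40, 71, 41, 46, 63, 45, 65, 66, 15, 44, 23, 57, 22, 72, 39, 16, 14, 70, 59, 37, 33, 36, 68, 9, 32, 69, 7, 20, 24, 34, 8, 29, 43, 3, 0, 51, 13, 30, 49, 10, 27, 17, 60, 73, 55, 56, 21, 19, 5, 74, 52, 6, 58, 64, 61, 18, 53, 4, 35, 2, 12, 25, 62, 67, 1, 28]
/-- points of gB -/
def ptsB : List ℕ := [0, 12, 10, 6, 4, 15, 3, 14, 2, 5, 16, 17, 13, 20, 7, 19, 8, 18, 21, 9, 1, 11, 22, 23]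
/-- inverse points of gB -/
def iptsB : List ℕ := [0, 20, 8, 6, 4, 9, 3, 14, 16, 19, 2, 21, 1, 12, 7, 5, 10, 11, 17, 15, 13, 18, 22, 23]
/-- conjugation of the basis by gB -/
def cjB : List (ℕ × Bool) := [(3246, true), (3626, false), (1140, false), (3401, true), (571, true), (3986, true), (1984, false), (1240, false), (2921, false), (3907, false), (1598, false), (2772, true)]
/-- right action of gO on the orbit -/
def movO : List ℕ := [0, 5, 2, 53, 6, 1, 4, 7, 30, 45, 38, 11, 28, 37, 52, 15, 69, 17, 35, 32, 25, 72, 60, 50, 67, 20, 26, 64, 12, 42, 8, 73, 19, 33, 66, 18, 36, 13, 10, 74, 58, 41, 29, 43, 57, 9, 46, 56, 48, 54, 23, 61, 14, 3, 49, 55, 47, 44, 40, 75, 22, 51, 62, 63, 27, 65, 34, 24, 68, 16, 70, 71, 21, 31, 39, 59, 76]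
/-- action of gO -/
def permO : List ℕ := [0, 5, 2, 53, 6, 1, 4, 7, 30, 45, 38, 11, 28, 37, 52, 15, 69, 17, 35, 32, 25, 72, 60, 50, 67, 20, 26, 64, 12, 42, 8, 73, 19, 33, 66, 18, 36, 13, 10, 74, 58, 41, 29, 43, 57, 9, 46, 56, 48, 54, 23, 61, 14, 3, 49, 55, 47, 44, 40, 75, 22, 51, 62, 63, 27, 65, 34, 24, 68, 16, 70, 71, 21, 31, 39, 59, 76]
/-- points of gO -/
def ptsO : List ℕ := [23, 17, 14, 5, 4, 3, 6, 10, 16, 9, 7, 22, 12, 13, 2, 15, 8, 1, 18, 19, 21, 20, 11, 0]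
/-- inverse points of gO -/
def iptsO : List ℕ := [23, 17, 14, 5, 4, 3, 6, 10, 16, 9, 7, 22, 12, 13, 2, 15, 8, 1, 18, 19, 21, 20, 11, 0]
/-- conjugation of the basis by gO -/
def cjO : List (ℕ × Bool) := [(1816, false), (1819, false), (732, false), (1488, true), (721, true), (58, false), (1176, true), (2176, false), (256, false), (2497, false), (4033, true), (2048, false)]
/-- hexads as point lists -/
def hexL : List (List ℕ) := [
  [1, 2, 3, 5, 14, 17],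
  [1, 2, 4, 13, 16, 22],
  [3, 4, 5, 12, 13, 18],
  [1, 3, 7, 9, 16, 18],
  [12, 14, 16, 17, 18, 22],
  [4, 8, 11, 13, 14, 17],
  [1, 2, 8, 11, 12, 18],
  [2, 4, 12, 14, 15, 19],
  [2, 3, 4, 8, 9, 21],
  [6, 9, 10, 16, 21, 22],
  [2, 3, 6, 12, 16, 20],
  [3, 5, 8, 11, 16, 22],
  [4, 5, 17, 19, 21, 22],
  [3, 4, 10, 15, 16, 17],
  [1, 3, 12, 15, 21, 22],
  [2, 6, 9, 13, 14, 18],
  [3, 13, 14, 16, 19, 21],
  [1, 13, 15, 17, 18, 19],
  [7, 9, 14, 15, 17, 21],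
  [3, 7, 8, 12, 17, 19],
  [2, 3, 7, 11, 13, 15],
  [3, 9, 10, 11, 12, 14],
  [3, 8, 14, 15, 18, 20],
  [5, 6, 7, 13, 16, 17],
  [1, 8, 9, 14, 19, 22],
  [5, 10, 13, 14, 15, 22],
  [6, 7, 10, 12, 15, 18],
  [1, 5, 6, 18, 20, 22],
  [1, 3, 4, 11, 19, 20],
  [1, 4, 10, 14, 18, 21],
  [4, 5, 9, 14, 16, 20],
  [7, 8, 13, 18, 21, 22],
  [1, 5, 10, 12, 16, 19],
  [2, 11, 14, 20, 21, 22],
  [2, 3, 10, 18, 19, 22],
  [1, 2, 9, 10, 15, 20],
  [8, 9, 12, 13, 15, 16],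
  [1, 4, 5, 7, 8, 15],
  [5, 6, 8, 12, 14, 21],
  [7, 15, 16, 19, 20, 22],
  [2, 6, 8, 15, 17, 22],
  [4, 6, 8, 16, 18, 19],
  [2, 4, 7, 17, 18, 20],
  [2, 7, 8, 10, 14, 16],
  [6, 10, 14, 17, 19, 20],
  [6, 7, 8, 9, 11, 20],
  [6, 11, 12, 13, 19, 22],
  [2, 4, 5, 6, 10, 11],
  [4, 7, 9, 10, 13, 19],
  [1, 7, 12, 13, 14, 20],
  [1, 3, 6, 8, 10, 13],
  [3, 9, 13, 17, 20, 22],
  [5, 11, 12, 15, 17, 20],
  [5, 8, 9, 10, 17, 18],
  [2, 10, 12, 13, 17, 21],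
  [3, 5, 6, 9, 15, 19],
  [3, 4, 6, 7, 14, 22],
  [1, 2, 6, 7, 19, 21],
  [1, 6, 11, 14, 15, 16],
  [4, 7, 11, 12, 16, 21],
  [2, 5, 15, 16, 18, 21],
  [1, 5, 9, 11, 13, 21],
  [1, 8, 16, 17, 20, 21],
  [3, 5, 7, 10, 20, 21],
  [3, 6, 11, 17, 18, 21],
  [9, 12, 18, 19, 20, 21],
  [5, 7, 11, 14, 18, 19],
  [2, 9, 11, 16, 17, 19],
  [1, 7, 10, 11, 17, 22],
  [2, 5, 8, 13, 19, 20],
  [1, 4, 6, 9, 12, 17],
  [4, 9, 11, 15, 18, 22],
  [2, 5, 7, 9, 12, 22],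
  [10, 11, 13, 16, 18, 20],
  [8, 10, 11, 15, 19, 21],
  [4, 8, 10, 12, 20, 22],
  [4, 6, 13, 15, 20, 21]]
/-- squares of the basis -/
def sqL : List Bool := [false, false, true, false, false, false, false, false, false, true, true, false]

end Cfsg.Agent.H45.J4Inv
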