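import Cfsg.Agent.H45.J4Inv.Data
import Cfsg.Agent.PGroups.Basic
import Cfsg.Prelude.Def_Transfer

/-!
The extraspecial group of order `2 ^ 13` centralised by the involution of the presented group `J4`.
-/

set_option autoImplicit false
set_option maxRecDepth 100000

namespace Cfsg.Agent.H45.J4Inv

open scoped commutatorElement
open Cfsg Cfsg.Agent.H45 Cfsg.Agent.H45.J4Rep Cfsg.Agent.H45.J4Mat Cfsg.Agent.H46.J4Out

/-- ordered products of the basis -/
noncomputable def qPr (m : ℕ) : ℕ → J
  | 0 => 1
  | k + 1 => bif m.testBit k then qPr m k * qq k else qPr m k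

/-- matrices of ordered products -/
noncomputable def qPrN (m : ℕ) : ℕ → ℕ
  | 0 => oneN 112 112
  | k + 1 => bif m.testBit k then mulN 112 (qPrN m k) (qqN k) else qPrN m k

theorem r_qPr (m : ℕ) : ∀ k, R (qPr m k) (qPrN m k)
  | 0 => R_one
  | k + 1 => by
    rw [qPr, qPrN]
    cases m.testBit k
    · exact r_qPr m k
    · exact (r_qPr m k).mul' (r_qq k)

/-- the form -/
def eB (i j : ℕ) : Bool := Nat.beq i (j + 6) || Nat.beq j (i + 6)

/-- the other member of a pair -/
def partner (j : ℕ) : ℕ := (j + 6) % 12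

/-- a power of the involution -/
noncomputable def zB : Bool → J
  | true => zz
  | false => 1

/-- its matrix -/
def zBN : Bool → ℕ
  | true => zzN
  | false => oneN 112 112

theorem r_zB : ∀ b, R (zB b) (zBN b)
  | true => r_zz
  | false => R_one

/-- the extraspecial group -/
noncomputable def qGrp : Subgroup J := Subgroup.closure (insert zz (qq '' {k | k < 12}))

theorem zz_mem_qGrp : zz ∈ qGrp := Subgroup.subset_closure (Or.inl rfl)

theorem qq_mem_qGrp {k : ℕ} (hk : k < 12) : qq k ∈ qGrp :=
  Subgroup.subset_closure (Or.inr ⟨k, hk, rfl⟩)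

theorem zB_mem_qGrp : ∀ b, zB b ∈ qGrp
  | true => zz_mem_qGrp
  | false => one_mem _

theorem qPr_mem_qGrp (m : ℕ) : ∀ k ≤ 12, qPr m k ∈ qGrp := by
  intro k
  induction k with
  | zero => intro _; exact one_mem _
  | succ k ih =>
    intro hk
    rw [qPr]
    cases m.testBit k
    · exact ih (by omega)
    · exact mul_mem (ih (by omega)) (qq_mem_qGrp (by omega))

theorem qPr_congr {m m' : ℕ} : ∀ k, (∀ i < k, m.testBit i = m'.testBit i) → qPr m k = qPr m' k
  | 0, _ => rfl
  | k + 1, h => by
    rw [qPr, qPr, h k (Nat.lt_succ_self k), qPr_congr k fun i hi => h i (by omega)]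

theorem comm_checks_q : ((List.range 12).all fun i => (List.range 12).all fun j =>
    Nat.beq (mulN 112 (qqN i) (qqN j))
      (mulN 112 (mulN 112 (qqN j) (qqN i)) (zBN (eB i j)))) = true := by
  decide +kernel

theorem sq_checks_q : ((List.range 12).all fun i =>
    Nat.beq (mulN 112 (qqN i) (qqN i)) (zBN (sqL.getD i false)) &&
      Nat.beq (mulN 112 (qqN i) zzN) (mulN 112 zzN (qqN i))) = true := by
  decide +kernel

theorem zz_sq_check : Nat.beq (mulN 112 zzN zzN) (oneN 112 112) = true := by decide +kernel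

theorem zz_differs : differs zzN (oneN 112 112) = true := by decide +kernel

theorem zz_ne : zz ≠ 1 := r_zz.ne' R_one zz_differs

variable (hf : Faithful)
include hf

theorem zz_sq : zz * zz = 1 :=
  R.eq' hf (r_zz.mul' r_zz) R_one (Nat.eq_of_beq_eq_true zz_sq_check)

theorem zB_mul : ∀ a b, zB a * zB b = zB (xor a b)
  | true, true => zz_sq hf
  | true, false => mul_one _
  | false, true => one_mul _
  | false, false => one_mul _

theorem zB_inv : ∀ b, (zB b)⁻¹ = zB b
  | true => inv_eq_of_mul_eq_one_left (zz_sq hf)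
  | false => inv_one

theorem commute_zz_qq {k : ℕ} (hk : k < 12) : Commute zz (qq k) := by
  have h := List.all_eq_true.1 sq_checks_q k (List.mem_range.2 hk)
  simp only [Bool.and_eq_true] at h
  exact (R.eq' hf ((r_qq k).mul' r_zz) (r_zz.mul' (r_qq k)) (Nat.eq_of_beq_eq_true h.2)).symm

theorem commute_zz_qGrp {e : J} (he : e ∈ qGrp) : Commute zz e := by
  induction he using Subgroup.closure_induction with
  | mem x hx =>
    rcases hx with rfl | ⟨k, hk, rfl⟩
    · exact Commute.refl _
    · exact commute_zz_qq hf hk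
  | one => exact Commute.one_right _
  | mul _ _ _ _ hx hy => exact hx.mul_right hy
  | inv _ _ hx => exact hx.inv_right

theorem commute_zB {e : J} (he : e ∈ qGrp) : ∀ b, Commute (zB b) e
  | true => commute_zz_qGrp hf he
  | false => Commute.one_left _

theorem qq_mul_qq {i j : ℕ} (hi : i < 12) (hj : j < 12) :
    qq i * qq j = qq j * qq i * zB (eB i j) :=
  R.eq' hf ((r_qq i).mul' (r_qq j)) (((r_qq j).mul' (r_qq i)).mul' (r_zB _))
    (Nat.eq_of_beq_eq_true (List.all_eq_true.1
      (List.all_eq_true.1 comm_checks_q i (List.mem_range.2 hi)) j (List.mem_range.2 hj)))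

theorem qq_sq {i : ℕ} (hi : i < 12) : qq i * qq i = zB (sqL.getD i false) := by
  have h := List.all_eq_true.1 sq_checks_q i (List.mem_range.2 hi)
  simp only [Bool.and_eq_true] at h
  exact R.eq' hf ((r_qq i).mul' (r_qq i)) (r_zB _) (Nat.eq_of_beq_eq_true h.1)

/-- multiplication on the right by a basis element -/
theorem qPr_mul_qq (m : ℕ) {k : ℕ} (hk : k < 12) : ∀ n, k < n → n ≤ 12 →
    ∃ b, qPr m n * qq k = qPr (m ^^^ 2 ^ k) n * zB b := by
  intro n
  induction n with
  | zero => intro h; omega
  | succ n ih =>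
    intro hkn hn
    rcases Nat.lt_or_ge k n with hlt | hge
    · obtain ⟨b, hb⟩ := ih hlt (by omega)
      have hbit : (m ^^^ 2 ^ k).testBit n = m.testBit n := by
        rw [Nat.testBit_xor, Nat.testBit_two_pow_of_ne (by omega), Bool.xor_false]
      rw [qPr, qPr, hbit]
      cases hc : m.testBit n
      · exact ⟨b, hb⟩
      · refine ⟨xor b (eB n k), ?_⟩
        simp only [cond_true]
        calc qPr m n * qq n * qq k = qPr m n * (qq n * qq k) := mul_assoc _ _ _
          _ = qPr m n * qq k * (qq n * zB (eB n k)) := by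
            rw [qq_mul_qq hf (by omega) hk]; simp only [mul_assoc]
          _ = qPr (m ^^^ 2 ^ k) n * (zB b * qq n) * zB (eB n k) := by
            rw [hb]; simp only [mul_assoc]
          _ = qPr (m ^^^ 2 ^ k) n * qq n * zB (xor b (eB n k)) := by
            rw [(commute_zB hf (qq_mem_qGrp (by omega)) b).eq, ← zB_mul hf]
            simp only [mul_assoc]
    · have hnk : n = k := by omega
      subst hnk
      have hlow : qPr (m ^^^ 2 ^ n) n = qPr m n := qPr_congr n fun i hi => by
        rw [Nat.testBit_xor, Nat.testBit_two_pow_of_ne (by omega), Bool.xor_false]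
      rw [qPr, qPr, hlow, Nat.testBit_xor, Nat.testBit_two_pow_self]
      cases hc : m.testBit n
      · exact ⟨false, by simp [zB]⟩
      · refine ⟨sqL.getD n false, ?_⟩
        simp only [cond_true, Bool.xor_true, Bool.not_true, cond_false]
        rw [mul_assoc, qq_sq hf hk]

/-- normal forms -/
theorem exists_form {e : J} (he : e ∈ qGrp) : ∃ m b, m < 4096 ∧ e = qPr m 12 * zB b := by
  have hz0 : ∀ k, qPr 0 k = 1 := fun k => by
    induction k with
    | zero => rfl
    | succ k ih => rw [qPr, Nat.zero_testBit, cond_false, ih]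
  induction he using Subgroup.closure_induction_right with
  | one => exact ⟨0, false, by norm_num, by rw [hz0, zB, mul_one]⟩
  | mul_right x _ y hy ih =>
    obtain ⟨m, b, hm, rfl⟩ := ih
    rcases hy with rfl | ⟨k, hk, rfl⟩
    · exact ⟨m, xor b true, hm, by rw [mul_assoc, ← zB_mul hf]; rfl⟩
    · obtain ⟨c, hc⟩ := qPr_mul_qq hf m hk 12 hk le_rfl
      refine ⟨m ^^^ 2 ^ k, xor c b,
        Nat.xor_lt_two_pow (n := 12) hm (Nat.pow_lt_pow_right one_lt_two hk), ?_⟩
      rw [mul_assoc, (commute_zB hf (qq_mem_qGrp hk) b).eq, ← mul_assoc, hc, mul_assoc, zB_mul hf]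
  | mul_inv_cancel x _ y hy ih =>
    obtain ⟨m, b, hm, rfl⟩ := ih
    rcases hy with rfl | ⟨k, hk, rfl⟩
    · refine ⟨m, xor b true, hm, ?_⟩
      rw [show zz⁻¹ = zB true from zB_inv hf true, mul_assoc, zB_mul hf]
    · obtain ⟨c, hc⟩ := qPr_mul_qq hf m hk 12 hk le_rfl
      refine ⟨m ^^^ 2 ^ k, xor c (xor b (sqL.getD k false)),
        Nat.xor_lt_two_pow (n := 12) hm (Nat.pow_lt_pow_right one_lt_two hk), ?_⟩
      have hi : (qq k)⁻¹ = qq k * zB (sqL.getD k false) := by
        refine inv_eq_of_mul_eq_one_right ?_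
        rw [← mul_assoc, qq_sq hf hk, zB_mul hf, Bool.xor_self]; rfl
      calc qPr m 12 * zB b * (qq k)⁻¹
          = qPr m 12 * (zB b * qq k) * zB (sqL.getD k false) := by
            rw [hi]; simp only [mul_assoc]
        _ = qPr m 12 * qq k * (zB b * zB (sqL.getD k false)) := by
            rw [(commute_zB hf (qq_mem_qGrp hk) b).eq]; simp only [mul_assoc]
        _ = qPr (m ^^^ 2 ^ k) 12 * zB (xor c (xor b (sqL.getD k false))) := by
            rw [hc, zB_mul hf, mul_assoc, zB_mul hf]

/-- commutators with basis elements read off the bits -/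
theorem qPr_swap (m : ℕ) {j : ℕ} (hj : j < 12) : ∀ n ≤ 12, qPr m n * qq j =
    qq j * qPr m n * zB (decide (partner j < n) && m.testBit (partner j)) := by
  intro n
  induction n with
  | zero => intro _; simp [qPr, zB]
  | succ n ih =>
    intro hn
    have hp : eB n j = decide (partner j = n) := by
      have key : ∀ a < 12, ∀ b < 12, eB a b = decide (partner b = a) := by decide
      exact key n (by omega) j hj
    rw [qPr]
    cases hc : m.testBit n
    · rw [cond_false, ih (by omega)]
      congr 2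
      rcases lt_trichotomy (partner j) n with h | h | h
      · simp [h, Nat.lt_succ_of_lt h]
      · simp [h, hc]
      · simp [show ¬ partner j < n by omega, show ¬ partner j < n + 1 by omega]
    · rw [cond_true]
      calc qPr m n * qq n * qq j = qPr m n * (qq n * qq j) := mul_assoc _ _ _
        _ = qPr m n * qq j * (qq n * zB (eB n j)) := by
          rw [qq_mul_qq hf (by omega) hj]; simp only [mul_assoc]
        _ = qq j * qPr m n * (zB (decide (partner j < n) && m.testBit (partner j)) * qq n) *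
            zB (eB n j) := by
          rw [ih (by omega)]; simp only [mul_assoc]
        _ = qq j * (qPr m n * qq n) *
            zB (decide (partner j < n + 1) && m.testBit (partner j)) := by
          rw [(commute_zB hf (qq_mem_qGrp (by omega)) _).eq, mul_assoc, mul_assoc, mul_assoc,
            zB_mul hf, hp, mul_assoc, mul_assoc]
          congr 4
          rcases lt_trichotomy (partner j) n with h | h | h
          · simp [h, Nat.lt_succ_of_lt h, h.ne]
          · simp [h, hc]
          · simp [show ¬ partner j < n by omega, show ¬ partner j < n + 1 by omega,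
              show partner j ≠ n by omega]

theorem commute_iff_bit {m : ℕ} {b : Bool} {j : ℕ} (hj : j < 12) :
    Commute (qPr m 12 * zB b) (qq j) ↔ m.testBit (partner j) = false := by
  have hlt : partner j < 12 := Nat.mod_lt _ (by norm_num)
  have key : qPr m 12 * zB b * qq j = qq j * (qPr m 12 * zB b) * zB (m.testBit (partner j)) := by
    rw [mul_assoc, (commute_zB hf (qq_mem_qGrp hj) b).eq, ← mul_assoc, qPr_swap hf m hj 12 le_rfl,
      decide_eq_true hlt, Bool.true_and]
    simp only [mul_assoc, zB_mul hf, Bool.xor_comm b]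
  constructor
  · intro h
    unfold Commute SemiconjBy at h
    rw [h] at key
    cases hc : m.testBit (partner j)
    · rfl
    · rw [hc] at key
      exact absurd (mul_eq_left.1 key.symm) zz_ne
  · intro h
    unfold Commute SemiconjBy
    rw [key, h, zB, mul_one]

theorem form_inj {m m' : ℕ} {b b' : Bool} (hm : m < 4096) (hm' : m' < 4096)
    (h : qPr m 12 * zB b = qPr m' 12 * zB b') : m = m' ∧ b = b' := by
  have hmm : m = m' := by
    refine Nat.eq_of_testBit_eq fun i => ?_
    by_cases hi : i < 12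
    · have hpi : partner (partner i) = i := by simp only [partner]; omega
      have hj : partner i < 12 := Nat.mod_lt _ (by norm_num)
      have h1 : m.testBit i = false ↔ m'.testBit i = false := by
        conv_lhs => rw [← hpi, ← commute_iff_bit hf hj (b := b), h]
        rw [commute_iff_bit hf hj, hpi]
      cases hA : m.testBit i <;> cases hB : m'.testBit i <;> simp_all
    · have hp : 2 ^ 12 ≤ 2 ^ i := Nat.pow_le_pow_right (by norm_num) (by omega)
      rw [Nat.testBit_lt_two_pow (lt_of_lt_of_le hm hp),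
        Nat.testBit_lt_two_pow (lt_of_lt_of_le hm' hp)]
  subst hmm
  have hb := mul_left_cancel h
  cases b <;> cases b' <;> simp_all [zB, zz_ne]

theorem card_qGrp : Nat.card qGrp = 8192 := by
  refine (Nat.card_eq_of_bijective (fun x : Fin 4096 × Bool => (⟨qPr x.1.1 12 * zB x.2,
    mul_mem (qPr_mem_qGrp _ 12 le_rfl) (zB_mem_qGrp _)⟩ : qGrp)) ⟨?_, ?_⟩).symm.trans ?_
  · intro x y h
    obtain ⟨h1, h2⟩ := form_inj hf x.1.2 y.1.2 (Subtype.mk.inj h)
    exact Prod.ext (Fin.ext h1) h2
  · rintro ⟨e, he⟩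
    obtain ⟨m, b, hm, rfl⟩ := exists_form hf he
    exact ⟨(⟨m, hm⟩, b), rfl⟩
  · simp [Nat.card_prod, Nat.card_eq_fintype_card]

/-- elements commute up to the involution -/
theorem swap_form {x y : J} (hx : x ∈ qGrp) (hy : y ∈ qGrp) : ∃ b, x * y = y * x * zB b := by
  obtain ⟨m, c, hm, rfl⟩ := exists_form hf hx
  induction hy using Subgroup.closure_induction with
  | mem w hw =>
    rcases hw with rfl | ⟨k, hk, rfl⟩
    · exact ⟨false, by rw [(commute_zz_qGrp hf hx).eq, zB, mul_one]⟩
    · refine ⟨m.testBit (partner k), ?_⟩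
      rw [mul_assoc, (commute_zB hf (qq_mem_qGrp hk) c).eq, ← mul_assoc,
        qPr_swap hf m hk 12 le_rfl, decide_eq_true (show partner k < 12 from Nat.mod_lt _ (by norm_num)),
        Bool.true_and]
      simp only [mul_assoc, zB_mul hf, Bool.xor_comm c]
  | one => exact ⟨false, by simp [zB]⟩
  | mul v w hv hw ihv ihw =>
    obtain ⟨b, hb⟩ := ihv
    obtain ⟨d, hd⟩ := ihw
    refine ⟨xor d b, ?_⟩
    calc qPr m 12 * zB c * (v * w) = v * (qPr m 12 * zB c) * (zB b * w) := by
          rw [← mul_assoc, hb]; simp only [mul_assoc]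
      _ = v * (qPr m 12 * zB c * w) * zB b := by
          rw [(commute_zB hf hw b).eq]; simp only [mul_assoc]
      _ = v * w * (qPr m 12 * zB c) * zB (xor d b) := by
          rw [hd, ← zB_mul hf]; simp only [mul_assoc]
  | inv v hv ihv =>
    obtain ⟨b, hb⟩ := ihv
    refine ⟨b, ?_⟩
    have h1 : v⁻¹ * (qPr m 12 * zB c) = qPr m 12 * zB c * v⁻¹ * zB b := by
      calc v⁻¹ * (qPr m 12 * zB c) = v⁻¹ * (qPr m 12 * zB c * v) * v⁻¹ := by group
        _ = qPr m 12 * zB c * (zB b * v⁻¹) := by rw [hb]; group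
        _ = qPr m 12 * zB c * v⁻¹ * zB b := by
          rw [(commute_zB hf (inv_mem hv) b).eq]; simp only [mul_assoc]
    rw [h1]
    simp only [mul_assoc, zB_mul hf, Bool.xor_self]
    simp [zB]

theorem comm_zero_six (c d : Bool) :
    (qq 6 * zB d * (qq 0 * zB c))⁻¹ * (qq 0 * zB c * (qq 6 * zB d)) = zz := by
  have h0 : qq 0 * qq 6 = qq 6 * qq 0 * zB true := qq_mul_qq hf (by norm_num) (by norm_num)
  have e : ∀ u v : J, u ∈ qGrp → v ∈ qGrp → ∀ c d : Bool,
      u * zB c * (v * zB d) = u * v * zB (xor c d) := by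
    intro u v hu hv c d
    calc u * zB c * (v * zB d) = u * (zB c * v) * zB d := by simp only [mul_assoc]
      _ = u * v * zB (xor c d) := by
        rw [(commute_zB hf hv c).eq, ← zB_mul hf]; simp only [mul_assoc]
  rw [e _ _ (qq_mem_qGrp (by norm_num)) (qq_mem_qGrp (by norm_num)),
    e _ _ (qq_mem_qGrp (by norm_num)) (qq_mem_qGrp (by norm_num)), h0, inv_mul_eq_iff_eq_mul,
    mul_assoc, mul_assoc (qq 6 * qq 0), zB_mul hf,
    ← show zB true = zz from rfl, zB_mul hf, Bool.xor_comm d c, Bool.xor_comm]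

/-- the product with the centre -/
theorem exists_mul_of_mem_sup (T : Subgroup J) (hT : ∀ x ∈ T, x ∈ qGrp) {e : J}
    (he : e ∈ T ⊔ Subgroup.zpowers zz) : ∃ y, y ∈ T ∧ ∃ b, e = y * zB b := by
  rw [Subgroup.zpowers_eq_closure, ← Subgroup.closure_eq T, ← Subgroup.closure_union] at he
  induction he using Subgroup.closure_induction with
  | mem w hw =>
    rcases hw with hw | rfl
    · exact ⟨w, hw, false, (mul_one w).symm⟩
    · exact ⟨1, one_mem T, true, (one_mul zz).symm⟩
  | one => exact ⟨1, one_mem T, false, (mul_one 1).symm⟩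
  | mul u v _ _ ihu ihv =>
    obtain ⟨y, hy, b, rfl⟩ := ihu
    obtain ⟨y', hy', b', rfl⟩ := ihv
    refine ⟨y * y', mul_mem hy hy', xor b b', ?_⟩
    rw [← zB_mul hf, mul_assoc y, ← mul_assoc (zB b), (commute_zB hf (hT _ hy') b).eq]
    simp only [mul_assoc]
  | inv u _ ihu =>
    obtain ⟨y, hy, b, rfl⟩ := ihu
    refine ⟨y⁻¹, inv_mem hy, b, ?_⟩
    rw [mul_inv_rev, zB_inv hf, (commute_zB hf (inv_mem (hT _ hy)) b).eq]

theorem isExtraspecial_qGrp : IsExtraspecial 2 qGrp := by
  haveI : Fact (Nat.Prime 2) := ⟨Nat.prime_two⟩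
  haveI : Finite qGrp := Nat.finite_of_card_ne_zero (by rw [card_qGrp hf]; norm_num)
  set ζ : qGrp := ⟨zz, zz_mem_qGrp⟩ with hζ
  have hcen : ∀ x : qGrp, x ∈ Subgroup.center qGrp ↔ x = 1 ∨ x = ζ := by
    intro x
    rw [Subgroup.mem_center_iff]
    constructor
    · intro h
      obtain ⟨m, b, hm, hx⟩ := exists_form hf x.2
      have hm0 : m = 0 := by
        refine Nat.eq_of_testBit_eq fun i => ?_
        rw [Nat.zero_testBit]
        by_cases hi : i < 12
        · have hj : partner i < 12 := Nat.mod_lt _ (by norm_num)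
          have hpi : partner (partner i) = i := by simp only [partner]; omega
          have := congrArg Subtype.val (h ⟨qq (partner i), qq_mem_qGrp hj⟩)
          simp only [Subgroup.coe_mul, hx] at this
          rw [← hpi]
          exact (commute_iff_bit hf hj).1 this.symm
        · exact Nat.testBit_lt_two_pow
            (lt_of_lt_of_le (show m < 2 ^ 12 from hm) (Nat.pow_le_pow_right (by norm_num) (by omega)))
      subst hm0
      have hz : qPr 0 12 = 1 := by simp [qPr]
      rw [hz, one_mul] at hx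
      cases b
      · exact Or.inl (Subtype.ext hx)
      · exact Or.inr (Subtype.ext hx)
    · rintro (rfl | rfl) y
      · simp
      · exact Subtype.ext (commute_zz_qGrp hf y.2).eq.symm
  have hc2 : Nat.card (Subgroup.center qGrp) = 2 := by
    rw [Nat.card_eq_two_iff' (⟨1, one_mem _⟩ : Subgroup.center qGrp)]
    refine ⟨⟨ζ, (hcen ζ).2 (Or.inr rfl)⟩, ?_, ?_⟩
    · simpa [Subtype.ext_iff, hζ] using zz_ne
    · rintro ⟨y, hy⟩ hy1
      rcases (hcen y).1 hy with rfl | rfl
      · exact absurd rfl hy1
      · rfl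
  have hswap := fun x hx y hy => swap_form hf (x := x) (y := y) hx hy
  have hsq : ∀ x ∈ qGrp, ∃ b, x * x = zB b := by
    intro x hx
    induction hx using Subgroup.closure_induction with
    | mem w hw =>
      rcases hw with rfl | ⟨k, hk, rfl⟩
      · exact ⟨false, zz_sq hf⟩
      · exact ⟨_, qq_sq hf hk⟩
    | one => exact ⟨false, by simp [zB]⟩
    | mul v w hv hw ihv ihw =>
      obtain ⟨b, hb⟩ := ihv
      obtain ⟨d, hd⟩ := ihw
      obtain ⟨e, he⟩ := hswap w hw v hv
      refine ⟨xor (xor b e) d, ?_⟩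
      calc v * w * (v * w) = v * (w * v) * w := by group
        _ = v * v * (w * zB e) * w := by rw [he]; group
        _ = v * v * zB e * (w * w) := by rw [← (commute_zB hf hw e).eq]; group
        _ = zB (xor (xor b e) d) := by rw [hb, hd, zB_mul hf, zB_mul hf]
    | inv v hv ihv =>
      obtain ⟨b, hb⟩ := ihv
      exact ⟨b, by rw [← mul_inv_rev, hb, zB_inv hf]⟩
  have hzc : ∀ (b : Bool) (h : zB b ∈ qGrp), (⟨zB b, h⟩ : qGrp) ∈ Subgroup.center qGrp :=
    fun b h => (hcen _).2 (by cases b <;> [exact Or.inl (Subtype.ext rfl); exact Or.inr (Subtype.ext rfl)])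
  have hp : IsPGroup 2 qGrp :=
    IsPGroup.of_card (n := 13) (by rw [card_qGrp hf]; norm_num)
  have hle : commutator qGrp ≤ Subgroup.center qGrp := by
    rw [commutator_def, Subgroup.commutator_le]
    intro x _ y _
    obtain ⟨b, hb⟩ := hswap x.1 x.2 y.1 y.2
    have h1 : (⁅x, y⁆ : qGrp) = ⟨zB b, zB_mem_qGrp b⟩ := by
      apply Subtype.ext
      simp only [commutatorElement_def, Subgroup.coe_mul, Subgroup.coe_inv]
      rw [hb, mul_assoc (y.1 * x.1), (commute_zB hf (inv_mem x.2) b).eq, mul_assoc (y.1 * x.1),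
        mul_assoc x.1⁻¹, (commute_zB hf (inv_mem y.2) b).eq]
      group
    rw [h1]
    exact hzc b _
  have hne : commutator qGrp ≠ ⊥ := by
    intro h
    have h1 : ⁅(⟨qq 0, qq_mem_qGrp (by norm_num)⟩ : qGrp), ⟨qq 6, qq_mem_qGrp (by norm_num)⟩⁆ ∈
        commutator qGrp := Subgroup.commutator_mem_commutator (Subgroup.mem_top _) (Subgroup.mem_top _)
    rw [h, Subgroup.mem_bot, commutatorElement_eq_one_iff_commute] at h1
    have h2 : qq 0 * qq 6 = qq 6 * qq 0 := congrArg Subtype.val h1.eq
    rw [qq_mul_qq hf (by norm_num) (by norm_num)] at h2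
    exact zz_ne (mul_eq_left.1 h2)
  have heq : commutator qGrp = Subgroup.center qGrp :=
    Subgroup.eq_of_le_of_card_ge hle
      (hc2.le.trans ((commutator qGrp).one_lt_card_iff_ne_bot.mpr hne))
  refine ⟨⟨hp, le_antisymm ?_ ?_, heq⟩, hc2⟩
  · refine Cfsg.Agent.PGroups.frattini_le_of_commutator_le (p := 2) _ hle (fun x => ?_)
    obtain ⟨b, hb⟩ := hsq x.1 x.2
    have h1 : x ^ 2 = ⟨zB b, zB_mem_qGrp b⟩ := Subtype.ext (by rw [pow_two]; exact hb)
    rw [h1]
    exact hzc b _
  · rw [← heq]
    exact Cfsg.Agent.PGroups.commutator_le_frattini hp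

end Cfsg.Agent.H45.J4Inv
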