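import Cfsg.Agent.H46.J4Out.Bridge
import Cfsg.Agent.H45.J4Inv.Congr

/-!
The subgroup `H = E ⋊ ⟨x, y⟩` of the presented group `J4`: its order and the class of the involution.
-/

set_option autoImplicit false
set_option maxRecDepth 100000

namespace Cfsg.Agent.H45.J4Inv

open Cfsg Cfsg.Agent.H45 Cfsg.Agent.H45.J4Rep Cfsg.Agent.H46.J4Out

/-- a step of the closure of a set of masks under the two conjugations, kept as one bit set -/
def grow (S : ℕ) : ℕ :=
  (List.range 2048).foldl (fun acc n =>
    bif S.testBit n then
      acc ||| (1 <<< applyAux H46.J4Out.Mx n 11) ||| (1 <<< applyAux H46.J4Out.My n 11)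
    else acc) S

/-- iterate -/
def reachSet : ℕ → ℕ → ℕ
  | S, 0 => S
  | S, k + 1 => reachSet (grow S) k

theorem mem_grow {P : ℕ → Prop} (hx : ∀ n, P n → P (applyAux H46.J4Out.Mx n 11))
    (hy : ∀ n, P n → P (applyAux H46.J4Out.My n 11)) {S : ℕ}
    (hS : ∀ n, S.testBit n = true → P n) : ∀ n, (grow S).testBit n = true → P n := by
  unfold grow
  generalize List.range 2048 = L
  suffices h : ∀ (L : List ℕ) (acc : ℕ), (∀ n, acc.testBit n = true → P n) →
      ∀ n, (L.foldl (fun acc n => bif S.testBit n then
        acc ||| (1 <<< applyAux H46.J4Out.Mx n 11) ||| (1 <<< applyAux H46.J4Out.My n 11)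
        else acc) acc).testBit n = true → P n from h L S hS
  intro L
  induction L with
  | nil => intro acc hacc; exact hacc
  | cons m L ih =>
    intro acc hacc
    rw [List.foldl_cons]
    refine ih _ ?_
    intro n hn
    cases hm : S.testBit m
    · rw [hm, cond_false] at hn; exact hacc n hn
    · simp only [hm, cond_true, Nat.testBit_or, Bool.or_eq_true, Nat.one_shiftLeft,
        Nat.testBit_two_pow, decide_eq_true_eq] at hn
      rcases hn with (h | h) | h
      · exact hacc n h
      · exact h ▸ hx m (hS m hm)
      · exact h ▸ hy m (hS m hm)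

theorem mem_reachSet {P : ℕ → Prop} (hx : ∀ n, P n → P (applyAux H46.J4Out.Mx n 11))
    (hy : ∀ n, P n → P (applyAux H46.J4Out.My n 11)) :
    ∀ (k : ℕ) {S : ℕ}, (∀ n, S.testBit n = true → P n) →
      ∀ n, (reachSet S k).testBit n = true → P n := by
  intro k
  induction k with
  | zero => intro S hS; exact hS
  | succ k ih => intro S hS; exact ih (mem_grow hx hy hS)

/-- the class of `zz` in `ESub`, as a bit set -/
def S1 : ℕ := 32314385897892548744537651912912693903375805110230449926321561896300364357645813324496399559759801486163676005138738405988822750552483481191091604337583015612274006368242646820762322617931275435849914203757616329575317526302057906043389553595055978019306367793570957271420917530960779583926652832155169964629324643431108629777939687940978852937747174928701396026199873747977574771120165301181966489020449211317228064417281155934125103614796812339656028870179441207218203789009396188816431399088151620935559260321474085840843153808572565344327793221235273461580203270038347750033721565844535343995605475388972970541054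

/-- the other class, as a bit set -/
def S9 : ℕ := 2620173418458556177224775757258057068297559485034105808783531224290781222077568700801851763111977525041955783159613505296808598007439903996548048865267508356870999058349270987875132458376670946143434626451238701474692340561850118448540743420192451275278058465347771466658360580286224680899566968760420892589689958559712642745286845585716557109001106624926031877931911353451421588295012968292103843727905408715539301180701423473247537504833564747668743053846024008921895701424020908725702638779702534119282259182612094202843459780433293887731945154163873963398865394881854611596912760416804197950378222086625689600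

theorem reach_one_eq : Nat.beq (reachSet 2 33) S1 = true := by decide +kernel

theorem reach_nine_eq : Nat.beq (reachSet (1 <<< 900) 19) S9 = true := by decide +kernel

theorem reach_one : ((List.range 2048).filter fun n => S1.testBit n).length = 1771 := by
  decide +kernel

theorem reach_all : ((List.range 2048).all fun n =>
    Nat.beq n 0 || S1.testBit n || S9.testBit n) = true := by
  decide +kernel

theorem differs_900 : differs (thetaN 900) (J4Mat.oneN 112 112) = true := by decide +kernel

theorem differs_1 : differs (thetaN 1) (J4Mat.oneN 112 112) = true := by decide +kernel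

variable (hf : Faithful)
include hf

theorem theta_ne_one {n : ℕ} (hn : n < 2048) (h0 : n ≠ 0) : theta n ≠ 1 := by
  have hP : ∀ k c, k = 1 ∨ k = 900 → ∀ n, (reachSet (1 <<< k) c).testBit n = true → theta n ≠ 1 := by
    intro k c hk n hn
    refine mem_reachSet (P := fun n => theta n ≠ 1) ?_ ?_ c ?_ n hn
    · intro m hm h
      rw [← conj_theta hf R_x H46.J4Out.Mx x_checks] at h
      exact hm (conj_eq_one_iff.1 h)
    · intro m hm h
      rw [← conj_theta hf R_y H46.J4Out.My y_checks] at h
      exact hm (conj_eq_one_iff.1 h)
    · intro m hm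
      simp only [Nat.one_shiftLeft, Nat.testBit_two_pow, decide_eq_true_eq] at hm
      subst hm
      rcases hk with rfl | rfl
      · exact (r_theta 1).ne' R_one differs_1
      · exact (r_theta 900).ne' R_one differs_900
  have h := List.all_eq_true.1 reach_all n (List.mem_range.2 hn)
  simp only [Bool.or_eq_true, Nat.beq_eq] at h
  rcases h with (h | h) | h
  · exact absurd h h0
  · exact hP 1 33 (Or.inl rfl) n ((Nat.eq_of_beq_eq_true reach_one_eq).symm ▸ h)
  · exact hP 900 19 (Or.inr rfl) n ((Nat.eq_of_beq_eq_true reach_nine_eq).symm ▸ h)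

theorem theta_injOn {a b : ℕ} (ha : a < 2048) (hb : b < 2048) (h : theta a = theta b) : a = b := by
  by_contra hne
  refine theta_ne_one hf (Nat.xor_lt_two_pow (n := 11) ha hb) (fun h0 => hne (Nat.xor_eq_zero_iff.1 h0)) ?_
  rw [theta_xor hf, h, ← theta_xor hf, Nat.xor_self, theta_zero hf]

theorem card_ESub : Nat.card ESub = 2048 := by
  refine (Nat.card_eq_of_bijective (fun n : Fin 2048 => (⟨theta n.1, theta_mem _⟩ : ESub))
    ⟨?_, ?_⟩).symm.trans (Nat.card_fin 2048)
  · intro a b h
    exact Fin.ext (theta_injOn hf a.2 b.2 (Subtype.mk.inj h))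
  · rintro ⟨e, he⟩
    obtain ⟨n, hn, rfl⟩ := exists_theta hf he
    exact ⟨⟨n, hn⟩, rfl⟩

theorem zz_ne_one : zz ≠ 1 := by
  change eF 0 ≠ 1
  rw [← theta_single hf (by norm_num : 0 < 11)]
  exact theta_ne_one hf (by norm_num) (by norm_num)

theorem card_HSub [Finite J] : Nat.card H46.J4Out.HSub = 501397585920 := by
  obtain ⟨φ, hinj, -, -, hr⟩ := J4Main.exists_embedding
  have hr' : φ.range = Subgroup.closure {gx, gy} := hr
  have hle : φ.range ≤ Subgroup.normalizer (ESub : Set J) := by
    rw [hr', Subgroup.closure_le]
    rintro g (rfl | rfl)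
    · exact Subgroup.mem_normalizer_fintype fun e he => conj_mem hf R_x H46.J4Out.Mx x_checks he
    · exact Subgroup.mem_normalizer_fintype fun e he => conj_mem hf R_y H46.J4Out.My y_checks he
  have hsup : H46.J4Out.HSub = ESub ⊔ φ.range := by
    rw [hr']
    refine le_antisymm ((Subgroup.closure_le _).2 ?_) (sup_le ?_ ?_)
    · rintro g (rfl | rfl | rfl)
      · exact Subgroup.mem_sup_right (Subgroup.subset_closure (by simp))
      · exact Subgroup.mem_sup_right (Subgroup.subset_closure (by simp))
      · exact Subgroup.mem_sup_left (Subgroup.subset_closure ⟨0, rfl⟩)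
    · refine (Subgroup.closure_le _).2 ?_
      rintro _ ⟨k, rfl⟩
      exact eF_mem (Subgroup.subset_closure (by simp)) (Subgroup.subset_closure (by simp))
        (Subgroup.subset_closure (by simp)) k
    · exact Subgroup.closure_mono (by intro g hg; rcases hg with rfl | rfl <;> simp)
  have hEfin : Finite ESub := inferInstance
  haveI : IsSimpleGroup M24 := Golay.isSimpleGroup_M24
  have hnormal : (ESub.comap φ).Normal := by
    constructor
    intro n hn g
    simp only [Subgroup.mem_comap, map_mul, map_inv] at hn ⊢
    exact (Subgroup.mem_normalizer_iff.1 (hle ⟨g, rfl⟩) _).1 hn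
  have hdisj : ESub.comap φ = ⊥ := by
    refine hnormal.eq_bot_or_eq_top.resolve_right fun h => ?_
    have hb : φ.range ≤ ESub := by
      rintro _ ⟨g, rfl⟩
      have : g ∈ ESub.comap φ := by rw [h]; exact Subgroup.mem_top g
      exact this
    have h1 := Subgroup.card_le_of_le hb
    rw [← Nat.card_congr (MonoidHom.ofInjective hinj).toEquiv, Golay.card_M24, card_ESub hf] at h1
    omega
  have hbij : Function.Bijective (fun q : ESub × M24 =>
      (⟨q.1.1 * φ q.2, by
        rw [hsup]
        exact mul_mem (Subgroup.mem_sup_left q.1.2) (Subgroup.mem_sup_right ⟨_, rfl⟩)⟩ : H46.J4Out.HSub)) := by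
    constructor
    · rintro ⟨e, σ⟩ ⟨e', σ'⟩ h
      have h' : e.1 * φ σ = e'.1 * φ σ' := Subtype.mk.inj h
      have hmem : σ * σ'⁻¹ ∈ ESub.comap φ := by
        change φ (σ * σ'⁻¹) ∈ ESub
        rw [map_mul, map_inv, show φ σ * (φ σ')⁻¹ = e.1⁻¹ * e'.1 by
          rw [eq_inv_mul_iff_mul_eq, ← mul_assoc, h', mul_inv_cancel_right]]
        exact mul_mem (inv_mem e.2) e'.2
      rw [hdisj, Subgroup.mem_bot, mul_inv_eq_one] at hmem
      subst hmem
      exact Prod.ext (Subtype.ext (mul_right_cancel h')) rfl
    · rintro ⟨g, hg⟩
      rw [hsup, ← SetLike.mem_coe,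
        Subgroup.coe_mul_of_right_le_normalizer_left _ _ hle] at hg
      obtain ⟨e, he, -, ⟨σ, rfl⟩, rfl⟩ := hg
      exact ⟨(⟨e, he⟩, σ), rfl⟩
  rw [← Nat.card_eq_of_bijective _ hbij, Nat.card_prod, card_ESub hf, Golay.card_M24]

/-- the conjugates of the involution under `H` are at least 1771 -/
theorem card_class_ge [Finite J] :
    1771 ≤ Nat.card {e : J // ∃ h ∈ H46.J4Out.HSub, h * zz * h⁻¹ = e} := by
  set L := (List.range 2048).filter fun n => S1.testBit n with hL
  have hP : ∀ n, S1.testBit n = true → ∃ h ∈ H46.J4Out.HSub, h * zz * h⁻¹ = theta n := by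
    intro n hn
    rw [← Nat.eq_of_beq_eq_true reach_one_eq] at hn
    refine mem_reachSet (P := fun n => ∃ h ∈ H46.J4Out.HSub, h * zz * h⁻¹ = theta n) ?_ ?_ 33 ?_ n hn
    · rintro m ⟨h, hh, he⟩
      refine ⟨gx * h, mul_mem (Subgroup.subset_closure (by simp)) hh, ?_⟩
      rw [← conj_theta hf R_x H46.J4Out.Mx x_checks, ← he]; group
    · rintro m ⟨h, hh, he⟩
      refine ⟨gy * h, mul_mem (Subgroup.subset_closure (by simp)) hh, ?_⟩
      rw [← conj_theta hf R_y H46.J4Out.My y_checks, ← he]; group
    · intro m hm
      have : m = 1 := by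
        have h2 : (2 : ℕ) = 2 ^ 1 := rfl
        rw [h2, Nat.testBit_two_pow, decide_eq_true_eq] at hm
        exact hm.symm
      subst this
      refine ⟨1, one_mem _, ?_⟩
      rw [one_mul, inv_one, mul_one]
      exact (theta_single hf (k := 0) (by norm_num)).symm
  have hmem : ∀ n ∈ L, n < 2048 ∧ S1.testBit n = true := by
    intro n hn
    rw [hL, List.mem_filter, List.mem_range] at hn
    exact hn
  have hnd : L.Nodup := List.nodup_range.filter _
  have hlen : L.length = 1771 := reach_one
  rw [← hlen, ← Nat.card_fin L.length]
  refine Nat.card_le_card_of_injective (fun i => ⟨theta L[i], hP _ (hmem _ (List.getElem_mem _)).2⟩) ?_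
  intro i j h
  have h2 := theta_injOn hf (hmem _ (List.getElem_mem _)).1 (hmem _ (List.getElem_mem _)).1
    (Subtype.mk.inj h)
  exact Fin.ext ((hnd.getElem_inj_iff).1 h2)

end Cfsg.Agent.H45.J4Inv
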