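import Cfsg.Agent.H45.J4Inv.Cand
import Cfsg.Agent.H45.J4Inv.IrrData

/-!
The action on the extraspecial group modulo its centre is irreducible; the subgroup of index two is
perfect and has no subgroups of small index, apart from indices divisible by eleven.
-/

set_option autoImplicit false
set_option maxRecDepth 100000

namespace Cfsg.Agent.H45.J4Inv

open scoped commutatorElement
open Cfsg Cfsg.Agent.H45 Cfsg.Agent.H45.J4Rep Cfsg.Agent.H45.J4Mat Cfsg.Agent.H46.J4Out

/-- a linear map of masks -/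
def linT (T : List (ℕ × Bool)) (m : ℕ) : ℕ → ℕ
  | 0 => 0
  | k + 1 => bif m.testBit k then linT T m k ^^^ (T.getD k (0, false)).1 else linT T m k

/-- the operations of the programme -/
def opM (o v : ℕ) : ℕ :=
  match o with
  | 0 => linT cjA v 12
  | 1 => linT cjB v 12
  | 2 => linT cjA v 12 ^^^ v
  | 3 => linT cjB v 12 ^^^ v
  | 4 => linT cjA (linT cjB v 12) 12 ^^^ v
  | _ => linT cjB (linT cjB v 12) 12 ^^^ v

/-- one step of the programme -/
def irrStep (s : ℕ × Bool) (i : ℕ) : ℕ × Bool :=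
  let c := (irrC >>> (15 * i)) % 32768
  (s.1 ||| (1 <<< (c / 8)), s.2 && s.1.testBit (opM (c % 8) (c / 8)))

theorem irr_ok : (((List.range irrLen).foldl irrStep (2, true)).2 &&
    Nat.beq ((List.range irrLen).foldl irrStep (2, true)).1 (2 ^ 4096 - 2)) = true := by
  decide +kernel

theorem spin_ok : ((List.range 11).all fun i =>
    Nat.beq (spinV.getD (i + 1) 0)
      (opM (spinL.getD i (0, 0)).2 (spinV.getD (spinL.getD i (0, 0)).1 0)) &&
    Nat.blt (spinL.getD i (0, 0)).1 (i + 1) && Nat.blt (spinL.getD i (0, 0)).2 2) = true := by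
  decide +kernel

/-- combination of the spanned vectors -/
def combV (t : ℕ) : ℕ → ℕ
  | 0 => 0
  | j + 1 => bif t.testBit j then combV t j ^^^ spinV.getD j 0 else combV t j

theorem comb_ok : ((List.range 12).all fun k =>
    Nat.beq (combV (combL.getD k 0) 12) (2 ^ k)) = true := by decide +kernel

theorem tables_lt : ((List.range 12).all fun k => Nat.blt (cjA.getD k (0, false)).1 4096 &&
    Nat.blt (cjB.getD k (0, false)).1 4096) = true := by decide +kernel

theorem kc_checks : (Nat.beq (mulN 112 gAN gkN)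
      (mulN 112 (mulN 112 (qPrN kcA.1 12) (zBN kcA.2)) (mulN 112 gkN gAN)) &&
    Nat.beq (mulN 112 gBN gkN)
      (mulN 112 (mulN 112 (qPrN kcB.1 12) (zBN kcB.2)) (mulN 112 gkN gBN))) = true := by
  decide +kernel

theorem foldl_inv {P : ℕ → Prop} (hstep : ∀ v o, P v → P (opM o v))
    (L : List ℕ) (s : ℕ × Bool) (hs : ∀ u, s.1.testBit u = true → P u → P 1)
    (hfin : (L.foldl irrStep s).2 = true) :
    ∀ u, (L.foldl irrStep s).1.testBit u = true → P u → P 1 := by
  induction L generalizing s with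
  | nil => exact hs
  | cons i L ih =>
    rw [List.foldl_cons] at hfin ⊢
    refine ih _ ?_ hfin
    intro u hu hPu
    have hmono : ∀ (L : List ℕ) (t : ℕ × Bool), (L.foldl irrStep t).2 = true → t.2 = true := by
      intro L
      induction L with
      | nil => intro t ht; exact ht
      | cons j L ih2 =>
        intro t ht
        have := ih2 _ ht
        simp only [irrStep, Bool.and_eq_true] at this
        exact this.1
    have h2 := hmono L _ hfin
    simp only [irrStep, Bool.and_eq_true] at h2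
    simp only [irrStep, Nat.testBit_or, Bool.or_eq_true, Nat.one_shiftLeft, Nat.testBit_two_pow,
      decide_eq_true_eq] at hu
    rcases hu with hu | rfl
    · exact hs u hu hPu
    · exact hs _ h2.2 (hstep _ _ hPu)

theorem exists_bit_of_all {u : ℕ} (hu : u < 4096) (h0 : u ≠ 0) :
    ((List.range irrLen).foldl irrStep (2, true)).1.testBit u = true := by
  have h := irr_ok
  simp only [Bool.and_eq_true] at h
  rw [Nat.eq_of_beq_eq_true h.2]
  rw [show (2 : ℕ) ^ 4096 - 2 = 2 ^ 4096 - (1 + 1) from rfl, Nat.testBit_two_pow_sub_succ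
    (lt_of_lt_of_eq (Nat.one_lt_two_pow (by norm_num)) rfl), decide_eq_true hu, Bool.true_and]
  have : (1 : ℕ).testBit u = false := by
    rw [show (1 : ℕ) = 2 ^ 0 from rfl, Nat.testBit_two_pow_of_ne (Ne.symm h0)]
  rw [this]; rfl

/-- an invariant set of masks is trivial or everything -/
theorem masks_all {P : ℕ → Prop} (h0 : P 0) (hx : ∀ a b, P a → P b → P (a ^^^ b))
    (hA : ∀ v, P v → P (linT cjA v 12)) (hB : ∀ v, P v → P (linT cjB v 12))
    {u : ℕ} (hu : u < 4096) (hu0 : u ≠ 0) (hP : P u) : ∀ m < 4096, P m := by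
  have hstep : ∀ v o, P v → P (opM o v) := by
    intro v o hv
    match o with
    | 0 => exact hA v hv
    | 1 => exact hB v hv
    | 2 => exact hx _ _ (hA v hv) hv
    | 3 => exact hx _ _ (hB v hv) hv
    | 4 => exact hx _ _ (hA _ (hB v hv)) hv
    | n + 5 => exact hx _ _ (hB _ (hB v hv)) hv
  have h := irr_ok
  simp only [Bool.and_eq_true] at h
  have h1 : P 1 := foldl_inv hstep (List.range irrLen) (2, true) (fun w hw hPw => by
      rw [show (2 : ℕ) = 2 ^ 1 from rfl, Nat.testBit_two_pow, decide_eq_true_eq] at hw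
      exact hw ▸ hPw) h.1 u (exists_bit_of_all hu hu0) hP
  have hspin : ∀ i < 12, P (spinV.getD i 0) := by
    intro i
    induction i using Nat.strong_induction_on with
    | _ i ih =>
      intro hi
      cases i with
      | zero => exact h1
      | succ i =>
        have hs := List.all_eq_true.1 spin_ok i (List.mem_range.2 (by omega))
        simp only [Bool.and_eq_true] at hs
        rw [Nat.eq_of_beq_eq_true hs.1.1]
        exact hstep _ _ (ih _ (Nat.le_of_ble_eq_true hs.1.2)
          (lt_of_lt_of_le (Nat.le_of_ble_eq_true hs.1.2) (by omega)))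
  have hcomb : ∀ t j, j ≤ 12 → P (combV t j) := by
    intro t j
    induction j with
    | zero => intro _; exact h0
    | succ j ih =>
      intro hj
      rw [combV]
      cases t.testBit j
      · exact ih (by omega)
      · exact hx _ _ (ih (by omega)) (hspin j (by omega))
  have hpow : ∀ k < 12, P (2 ^ k) := by
    intro k hk
    rw [← Nat.eq_of_beq_eq_true (List.all_eq_true.1 comb_ok k (List.mem_range.2 hk))]
    exact hcomb _ 12 le_rfl
  intro m hm
  have hlow : ∀ n ≤ 12, P (m % 2 ^ n) := by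
    intro n
    induction n with
    | zero => intro _; rw [pow_zero, Nat.mod_one]; exact h0
    | succ n ih =>
      intro hn
      have hmod : m % 2 ^ (n + 1) = (m % 2 ^ n) ^^^ (bif m.testBit n then 2 ^ n else 0) := by
        refine Nat.eq_of_testBit_eq fun i => ?_
        rw [Nat.testBit_xor, Nat.testBit_mod_two_pow, Nat.testBit_mod_two_pow]
        rcases lt_trichotomy i n with hlt | rfl | hlt
        · have : (bif m.testBit n then 2 ^ n else 0).testBit i = false := by
            cases m.testBit n <;> simp [Nat.testBit_two_pow_of_ne hlt.ne']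
          simp [this, hlt, Nat.lt_succ_of_lt hlt]
        · cases hc : m.testBit i <;> simp [Nat.testBit_two_pow_self]
        · have : (bif m.testBit n then 2 ^ n else 0).testBit i = false := by
            cases m.testBit n <;> simp [Nat.testBit_two_pow_of_ne hlt.ne]
          simp [this, show ¬ i < n by omega, show ¬ i < n + 1 by omega]
      rw [hmod]
      refine hx _ _ (ih (by omega)) ?_
      cases m.testBit n
      · exact h0
      · exact hpow n (by omega)
  have := hlow 12 le_rfl
  rwa [Nat.mod_eq_of_lt (show m < 2 ^ 12 from hm)] at this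

theorem qPr_single {k : ℕ} (hk : k < 12) : qPr (2 ^ k) 12 = qq k := by
  have : ∀ n, qPr (2 ^ k) n = if k < n then qq k else 1 := by
    intro n
    induction n with
    | zero => simp [qPr]
    | succ n ih =>
      rw [qPr, ih, Nat.testBit_two_pow]
      rcases lt_trichotomy k n with h | rfl | h
      · simp [h, h.ne, Nat.lt_succ_of_lt h]
      · simp
      · simp [show ¬ k < n by omega, h.ne', show ¬ k < n + 1 by omega]
  rw [this, if_pos hk]

theorem qGrp_le_mGrp : qGrp ≤ mGrp := le_sup_left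

variable (hf : Faithful)
include hf

theorem qPr_mul (a : ℕ) : ∀ n ≤ 12, ∀ b, ∃ c, qPr a 12 * qPr b n = qPr (a ^^^ b % 2 ^ n) 12 * zB c := by
  intro n
  induction n with
  | zero => intro _ b; exact ⟨false, by simp [qPr, zB, Nat.mod_one]⟩
  | succ n ih =>
    intro hn b
    obtain ⟨c, hc⟩ := ih (by omega) b
    rw [show qPr b (n + 1) = bif b.testBit n then qPr b n * qq n else qPr b n from rfl]
    cases hb : b.testBit n
    · have : b % 2 ^ (n + 1) = b % 2 ^ n := by
        refine Nat.eq_of_testBit_eq fun i => ?_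
        rw [Nat.testBit_mod_two_pow, Nat.testBit_mod_two_pow]
        rcases lt_trichotomy i n with h | rfl | h
        · simp [h, Nat.lt_succ_of_lt h]
        · simp [hb]
        · simp [show ¬ i < n by omega, show ¬ i < n + 1 by omega]
      rw [this]; exact ⟨c, hc⟩
    · have : b % 2 ^ (n + 1) = b % 2 ^ n ^^^ 2 ^ n := by
        refine Nat.eq_of_testBit_eq fun i => ?_
        rw [Nat.testBit_xor, Nat.testBit_mod_two_pow, Nat.testBit_mod_two_pow, Nat.testBit_two_pow]
        rcases lt_trichotomy i n with h | rfl | h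
        · simp [h, Nat.lt_succ_of_lt h, h.ne']
        · simp [hb]
        · simp [show ¬ i < n by omega, show ¬ i < n + 1 by omega, h.ne]
      obtain ⟨d, hd⟩ := qPr_mul_qq hf (a ^^^ b % 2 ^ n) (k := n) (by omega) 12 (by omega) le_rfl
      refine ⟨xor d c, ?_⟩
      rw [cond_true, ← mul_assoc, hc, mul_assoc, (commute_zB hf (qq_mem_qGrp (by omega)) c).eq,
        ← mul_assoc, hd, mul_assoc, zB_mul hf, this, Nat.xor_assoc]

theorem conj_qPr {g : J} {M : ℕ} {T : List (ℕ × Bool)} (hg : R g M) (h : cjOk M T = true)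
    (hT : ∀ k < 12, (T.getD k (0, false)).1 < 4096) (m : ℕ) : ∀ n ≤ 12,
    (∃ c, g * qPr m n * g⁻¹ = qPr (linT T m n) 12 * zB c) ∧ linT T m n < 4096 := by
  intro n
  induction n with
  | zero =>
    intro _
    exact ⟨⟨false, by simp [qPr, linT, zB]⟩, by simp [linT]⟩
  | succ n ih =>
    intro hn
    obtain ⟨⟨c, hc⟩, hlt⟩ := ih (by omega)
    rw [qPr, linT]
    cases m.testBit n
    · exact ⟨⟨c, hc⟩, hlt⟩
    · simp only [cond_true]
      refine ⟨?_, Nat.xor_lt_two_pow (n := 12) hlt (hT n (by omega))⟩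
      set t := (T.getD n (0, false)).1
      set d := (T.getD n (0, false)).2
      obtain ⟨e, he⟩ := qPr_mul hf (linT T m n) 12 le_rfl t
      rw [Nat.mod_eq_of_lt (show t < 2 ^ 12 from hT n (by omega))] at he
      refine ⟨xor e (xor c d), ?_⟩
      calc g * (qPr m n * qq n) * g⁻¹ = (g * qPr m n * g⁻¹) * (g * qq n * g⁻¹) := by group
        _ = qPr (linT T m n) 12 * (zB c * qPr t 12) * zB d := by
          rw [hc, conj_qq hf hg h (by omega)]; simp only [mul_assoc]; rfl
        _ = qPr (linT T m n ^^^ t) 12 * zB (xor e (xor c d)) := by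
          rw [(commute_zB hf (qPr_mem_qGrp t 12 le_rfl) c).eq, ← mul_assoc, he]
          simp only [mul_assoc, zB_mul hf, Bool.xor_assoc]

/-- an invariant subgroup of the extraspecial group -/
theorem irred {X : Subgroup J} (hX : X ≤ qGrp) (hA : ∀ e ∈ X, gA * e * gA⁻¹ ∈ X)
    (hB : ∀ e ∈ X, gB * e * gB⁻¹ ∈ X) : (∀ e ∈ X, e = 1 ∨ e = zz) ∨ X = qGrp := by
  by_cases hsm : ∀ e ∈ X, e = 1 ∨ e = zz
  · exact Or.inl hsm
  refine Or.inr (le_antisymm hX ?_)
  push Not at hsm
  obtain ⟨e, he, he1, hez⟩ := hsm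
  obtain ⟨u, b, hu, rfl⟩ := exists_form hf (hX he)
  have hu0 : u ≠ 0 := by
    rintro rfl
    have hz : qPr 0 12 = 1 := by simp [qPr]
    rw [hz, one_mul] at he1 hez
    cases b
    · exact he1 rfl
    · exact hez rfl
  let P : ℕ → Prop := fun m => m < 4096 ∧ ∃ c, qPr m 12 * zB c ∈ X
  have h := cj_checks
  simp only [Bool.and_eq_true] at h
  have htA : ∀ k < 12, (cjA.getD k (0, false)).1 < 4096 := fun k hk => by
    have := List.all_eq_true.1 tables_lt k (List.mem_range.2 hk)
    simp only [Bool.and_eq_true] at this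
    exact Nat.le_of_ble_eq_true this.1
  have htB : ∀ k < 12, (cjB.getD k (0, false)).1 < 4096 := fun k hk => by
    have := List.all_eq_true.1 tables_lt k (List.mem_range.2 hk)
    simp only [Bool.and_eq_true] at this
    exact Nat.le_of_ble_eq_true this.2
  obtain ⟨hga, hgb, -⟩ := gens_comm hf
  have hall : ∀ m < 4096, P m := by
    refine masks_all ⟨by norm_num, false, by simp [qPr, zB]⟩ ?_ ?_ ?_ hu hu0 ⟨hu, b, he⟩
    · rintro m n ⟨hm, c, hc⟩ ⟨hn, d, hd⟩
      obtain ⟨w, hw⟩ := qPr_mul hf m 12 le_rfl n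
      rw [Nat.mod_eq_of_lt (show n < 2 ^ 12 from hn)] at hw
      refine ⟨Nat.xor_lt_two_pow (n := 12) hm hn, xor w (xor c d), ?_⟩
      have := mul_mem hc hd
      rwa [mul_assoc (qPr m 12), ← mul_assoc (zB c), (commute_zB hf (qPr_mem_qGrp n 12 le_rfl) c).eq,
        ← mul_assoc, ← mul_assoc, hw, mul_assoc (qPr _ 12), zB_mul hf, mul_assoc, zB_mul hf,
        Bool.xor_assoc] at this
    · rintro m ⟨hm, c, hc⟩
      obtain ⟨⟨d, hd⟩, hlt⟩ := conj_qPr hf r_gA h.1.1 htA m 12 le_rfl
      refine ⟨hlt, xor d c, ?_⟩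
      have h1 := hA _ hc
      have hzc : gA * zB c * gA⁻¹ = zB c := by
        cases c
        · simp [zB]
        · rw [zB, hga.eq, mul_inv_cancel_right]
      rwa [show gA * (qPr m 12 * zB c) * gA⁻¹ = (gA * qPr m 12 * gA⁻¹) * (gA * zB c * gA⁻¹) by group,
        hzc, hd, mul_assoc, zB_mul hf] at h1
    · rintro m ⟨hm, c, hc⟩
      obtain ⟨⟨d, hd⟩, hlt⟩ := conj_qPr hf r_gB h.1.2 htB m 12 le_rfl
      refine ⟨hlt, xor d c, ?_⟩
      have h1 := hB _ hc
      have hzc : gB * zB c * gB⁻¹ = zB c := by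
        cases c
        · simp [zB]
        · rw [zB, hgb.eq, mul_inv_cancel_right]
      rwa [show gB * (qPr m 12 * zB c) * gB⁻¹ = (gB * qPr m 12 * gB⁻¹) * (gB * zB c * gB⁻¹) by group,
        hzc, hd, mul_assoc, zB_mul hf] at h1
  have hone : ∀ k < 12, ∃ c, qq k * zB c ∈ X := by
    intro k hk
    obtain ⟨-, c, hc⟩ := hall (2 ^ k) (Nat.pow_lt_pow_right one_lt_two hk)
    exact ⟨c, qPr_single hk ▸ hc⟩
  have hz : zz ∈ X := by
    obtain ⟨c, hc⟩ := hone 0 (by norm_num)
    obtain ⟨d, hd⟩ := hone 6 (by norm_num)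
    have h1 := mul_mem (inv_mem (mul_mem hd hc)) (mul_mem hc hd)
    have h2 : qq 0 * qq 6 = qq 6 * qq 0 * zz := qq_mul_qq hf (by norm_num) (by norm_num)
    have h3 : qq 0 * zB c * (qq 6 * zB d) = qq 6 * zB d * (qq 0 * zB c) * zz := by
      calc qq 0 * zB c * (qq 6 * zB d) = qq 0 * (zB c * qq 6) * zB d := by simp only [mul_assoc]
        _ = qq 0 * qq 6 * (zB c * zB d) := by
          rw [(commute_zB hf (qq_mem_qGrp (by norm_num)) c).eq]; simp only [mul_assoc]
        _ = qq 6 * qq 0 * (zB d * zB c * zz) := by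
          rw [h2, zB_mul hf, zB_mul hf, Bool.xor_comm d c, mul_assoc,
            ← (commute_zB hf zz_mem_qGrp _).eq]
        _ = qq 6 * (qq 0 * zB d) * zB c * zz := by simp only [mul_assoc]
        _ = qq 6 * zB d * (qq 0 * zB c) * zz := by
          rw [← (commute_zB hf (qq_mem_qGrp (by norm_num)) d).eq]; simp only [mul_assoc]
    rw [h3, inv_mul_cancel_left] at h1
    exact h1
  refine (Subgroup.closure_le _).2 ?_
  rintro x (rfl | ⟨k, hk, rfl⟩)
  · exact hz
  · obtain ⟨c, hc⟩ := hone k hk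
    have : zB c ∈ X := by cases c <;> [exact one_mem _; exact hz]
    exact (Subgroup.mul_mem_cancel_right _ this).1 hc

theorem gk_commutes : (∃ e ∈ qGrp, gA * gk = e * (gk * gA)) ∧
    (∃ e ∈ qGrp, gB * gk = e * (gk * gB)) := by
  have h := kc_checks
  simp only [Bool.and_eq_true] at h
  exact ⟨⟨_, mul_mem (qPr_mem_qGrp _ 12 le_rfl) (zB_mem_qGrp _), R.eq' hf (r_gA.mul' r_gk)
      (((r_qPr _ 12).mul' (r_zB _)).mul' (r_gk.mul' r_gA)) (Nat.eq_of_beq_eq_true h.1)⟩,
    ⟨_, mul_mem (qPr_mem_qGrp _ 12 le_rfl) (zB_mem_qGrp _), R.eq' hf (r_gB.mul' r_gk)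
      (((r_qPr _ 12).mul' (r_zB _)).mul' (r_gk.mul' r_gB)) (Nat.eq_of_beq_eq_true h.2)⟩⟩

end Cfsg.Agent.H45.J4Inv
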