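import Cfsg.Agent.H45.J4Inv.Irred

/-!
The subgroup of index two is perfect; its subgroups of small index have index divisible by eleven.
-/

set_option autoImplicit false
set_option maxRecDepth 100000

namespace Cfsg.Agent.H45.J4Inv

open scoped commutatorElement
open Cfsg Cfsg.Agent.H45 Cfsg.Agent.H45.J4Rep Cfsg.Agent.H45.J4Mat Cfsg.Agent.H46.J4Out

/-- the extraspecial group inside `mGrp` -/
noncomputable def qM : Subgroup mGrp := qGrp.subgroupOf mGrp
/-- the element of order three inside `mGrp` -/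
noncomputable def kElt (hf : Faithful) : mGrp := ⟨gk, gk_mem_mGrp hf⟩
/-- A inside `mGrp` -/
noncomputable def aElt : mGrp := ⟨gA, gA_mem_mGrp⟩
/-- B inside `mGrp` -/
noncomputable def bElt : mGrp := ⟨gB, gB_mem_mGrp⟩

theorem exists_onto {G H : Type*} [Group G] [Group H] (f : G →* H) (T : Subgroup H)
    (hr : f.range = T) :
    ∃ ψ : G →* T, Function.Surjective ψ ∧ ∀ x, (ψ x : H) = f x := by
  subst hr
  exact ⟨f.rangeRestrict, f.rangeRestrict_surjective, fun _ => rfl⟩

variable (hf : Faithful)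
include hf

theorem qM_normal : qM.Normal := by
  refine ⟨fun n hn g => ?_⟩
  rw [qM, Subgroup.mem_subgroupOf] at hn ⊢
  simp only [Subgroup.coe_mul, Subgroup.coe_inv]
  exact cGrp_conj hf (mGrp_le_cGrp g.2) hn

omit hf in
theorem mGrp_gen : (⊤ : Subgroup mGrp) = qM ⊔ Subgroup.closure {aElt, bElt} := by
  apply Subgroup.map_injective (Subgroup.subtype_injective mGrp)
  rw [← MonoidHom.range_eq_map, Subgroup.range_subtype, Subgroup.map_sup, qM,
    Subgroup.map_subgroupOf_eq_of_le qGrp_le_mGrp, MonoidHom.map_closure, Set.image_pair]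
  rfl

omit hf in
/-- the action of `mGrp` -/
noncomputable def psiM : mGrp →* Equiv.Perm (Fin 77) :=
  piHom.comp (Subgroup.inclusion mGrp_le_cGrp)

omit hf in
theorem psiM_apply (m : mGrp) : psiM m = piHom (Subgroup.inclusion mGrp_le_cGrp m) := rfl

theorem kElt_coe : mGrp.subtype (kElt hf) = gk := rfl

omit hf in
theorem ker_map {g : cGrp} (hg : g.1 ∈ mGrp) :
    piHom g = 1 ↔ psiM ⟨g.1, hg⟩ = 1 := Iff.rfl

attribute [local irreducible] psiM

variable [Finite J] (hcard : Nat.card J = 86775571046077562880)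
include hcard

theorem psiM_range : psiM.range = t2 := by
  rw [psiM, MonoidHom.range_comp, Subgroup.inclusion_range, (card_mGrp hf hcard).2.1]

theorem psiM_ker : psiM.ker = qM ⊔ Subgroup.zpowers (kElt hf) := by
  obtain ⟨-, -, hk, -⟩ := card_facts hf hcard
  apply Subgroup.map_injective (Subgroup.subtype_injective mGrp)
  rw [Subgroup.map_sup, qM, Subgroup.map_subgroupOf_eq_of_le qGrp_le_mGrp, MonoidHom.map_zpowers,
    Subgroup.zpowers_eq_closure]
  rw [kElt_coe hf, ← nGrp, hk, kerJ]
  ext x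
  simp only [Subgroup.mem_map, MonoidHom.mem_ker]
  constructor
  · rintro ⟨m, hm, rfl⟩
    refine ⟨Subgroup.inclusion mGrp_le_cGrp m, ?_, ?_⟩
    · rw [psiM_apply] at hm
      exact hm
    · rw [Subgroup.coe_subtype, Subgroup.coe_subtype, Subgroup.coe_inclusion]
  · rintro ⟨g, hg, rfl⟩
    have hgm := Subgroup.mem_subgroupOf.1 ((card_mGrp hf hcard).2.2 (MonoidHom.mem_ker.2 hg))
    exact ⟨⟨g.1, hgm⟩, (ker_map hgm).1 hg, rfl⟩

theorem commutator_top : commutator mGrp = ⊤ := by
  haveI := qM_normal hf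
  set D := commutator mGrp with hD
  haveI : D.Normal := inferInstanceAs (commutator mGrp).Normal
  obtain ⟨e⟩ := exists_equiv
  -- the image is perfect
  have ht2 : commutator t2 = ⊤ := by
    haveI := Golay.isSimpleGroup_spor_M22
    haveI : Nontrivial t2 := Finite.one_lt_card_iff_nontrivial.1 (by rw [card_t2]; norm_num)
    haveI : IsSimpleGroup t2 := IsSimpleGroup.isSimpleGroup_of_surjective e.symm.toMonoidHom e.symm.surjective
    refine (Subgroup.Normal.eq_bot_or_eq_top (inferInstanceAs (commutator t2).Normal)).resolve_left ?_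
    intro h
    have hab : ∀ x y : t2, x * y = y * x := fun x y =>
      commutatorElement_eq_one_iff_mul_comm.1 (Subgroup.mem_bot.1
        (h ▸ Subgroup.commutator_mem_commutator (Subgroup.mem_top x) (Subgroup.mem_top y)))
    have h1 := congrArg Subtype.val (hab ⟨piA, Subgroup.subset_closure (Or.inl rfl)⟩
      ⟨piB, Subgroup.subset_closure (Or.inr rfl)⟩)
    revert h1
    change piA * piB = piB * piA → False
    rw [Equiv.ext_iff]
    decide +kernel
  have hDN : D ⊔ psiM.ker = ⊤ := by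
    rw [← Subgroup.comap_map_eq, eq_top_iff]
    intro x _
    rw [Subgroup.mem_comap]
    have hx : psiM x ∈ t2 := psiM_range hf hcard ▸ ⟨x, rfl⟩
    have h1 : (⟨psiM x, hx⟩ : t2) ∈ commutator t2 := ht2 ▸ Subgroup.mem_top _
    have h2 := Subgroup.mem_map_of_mem t2.subtype h1
    rw [hD, commutator_def, Subgroup.map_commutator]
    rw [commutator_def, Subgroup.map_commutator, ← MonoidHom.range_eq_map, Subgroup.range_subtype] at h2
    change psiM x ∈ _ at h2
    rw [← psiM_range hf hcard, MonoidHom.range_eq_map] at h2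
    exact h2
  -- the extraspecial group lies in it
  have hQD : qM ≤ D := by
    have hX1 : (D ⊓ qM).map mGrp.subtype ≤ qGrp := by
      rintro x ⟨y, hy, rfl⟩
      exact Subgroup.mem_subgroupOf.1 (show y ∈ qM from hy.2)
    have hconj : ∀ g : mGrp, ∀ x ∈ (D ⊓ qM).map mGrp.subtype,
        (g : J) * x * (g : J)⁻¹ ∈ (D ⊓ qM).map mGrp.subtype := by
      rintro g x ⟨y, hy, rfl⟩
      have hyD : y ∈ D := hy.1
      have hyQ : y ∈ qM := hy.2
      exact Subgroup.mem_map_of_mem mGrp.subtype (Subgroup.mem_inf.2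
        ⟨Subgroup.Normal.conj_mem ‹D.Normal› _ hyD g, (qM_normal hf).conj_mem _ hyQ g⟩)
    rcases irred hf hX1 (hconj aElt) (hconj bElt) with h | h
    · exfalso
      obtain ⟨hga, -, -⟩ := gens_comm hf
      have hq : qPr 1 12 = qq 0 := qPr_single (k := 0) (by norm_num)
      have hmem : ⁅aElt, (⟨qq 0, qGrp_le_mGrp (qq_mem_qGrp (by norm_num))⟩ : mGrp)⁆ ∈ D ⊓ qM := by
        refine ⟨Subgroup.commutator_mem_commutator (Subgroup.mem_top _) (Subgroup.mem_top _), ?_⟩
        change ((⁅aElt, _⁆ : mGrp) : J) ∈ qGrp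
        simp only [commutatorElement_def, Subgroup.coe_mul, Subgroup.coe_inv]
        exact mul_mem (cGrp_conj hf gA_mem_cGrp (qq_mem_qGrp (by norm_num)))
          (inv_mem (qq_mem_qGrp (by norm_num)))
      have h0 := h _ (Subgroup.mem_map_of_mem mGrp.subtype hmem)
      simp only [Subgroup.coe_subtype, commutatorElement_def, Subgroup.coe_mul, Subgroup.coe_inv] at h0
      change gA * qq 0 * gA⁻¹ * (qq 0)⁻¹ = 1 ∨ gA * qq 0 * gA⁻¹ * (qq 0)⁻¹ = zz at h0
      have hc := cj_checks
      simp only [Bool.and_eq_true] at hc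
      rw [conj_qq hf r_gA hc.1.1 (by norm_num)] at h0
      have key : ∃ b, qPr (cjA.getD 0 (0, false)).1 12 * zB (cjA.getD 0 (0, false)).2 =
          qPr 1 12 * zB b := by
        rcases h0 with h0 | h0
        · exact ⟨false, by rw [hq, zB, mul_one]; exact mul_inv_eq_one.1 h0⟩
        · refine ⟨true, ?_⟩
          rw [mul_inv_eq_iff_eq_mul.1 h0, hq]
          exact (commute_zz_qGrp hf (qq_mem_qGrp (by norm_num))).eq
      obtain ⟨b, hb⟩ := key
      exact absurd (form_inj hf (by decide) (by norm_num) hb).1 (by decide)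
    · intro x hx
      have : (x : J) ∈ (D ⊓ qM).map mGrp.subtype := h ▸ Subgroup.mem_subgroupOf.1 hx
      obtain ⟨y, hy, hyx⟩ := this
      rw [← Subtype.ext hyx]
      exact hy.1
  -- the quotient is generated by the image of the element of order three
  set q := QuotientGroup.mk' D with hq
  set K := Subgroup.zpowers (q (kElt hf)) with hK
  have hq1 : ∀ x ∈ qM, q x = 1 := fun x hx => (QuotientGroup.eq_one_iff x).2 (hQD hx)
  have hsurj : ∀ x : mGrp ⧸ D, x ∈ K := by
    have h1 : (⊤ : Subgroup mGrp).map q ≤ K := by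
      rw [← hDN, psiM_ker hf hcard, Subgroup.map_sup, Subgroup.map_sup, hq, QuotientGroup.map_mk'_self,
        MonoidHom.map_zpowers]
      refine sup_le bot_le (sup_le ?_ le_rfl)
      rintro x ⟨y, hy, rfl⟩
      rw [show QuotientGroup.mk' D y = 1 from hq1 y hy]
      exact one_mem _
    intro x
    obtain ⟨y, rfl⟩ := QuotientGroup.mk'_surjective D x
    exact h1 ⟨y, Subgroup.mem_top _, rfl⟩
  have hcube : q (kElt hf) ^ 3 = 1 := by
    have : (kElt hf) ^ 3 = 1 := Subtype.ext (by
      rw [Subgroup.coe_pow]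
      exact orderOf_gk hf ▸ pow_orderOf_eq_one gk)
    rw [← map_pow, this, map_one]
  have h3 : ∀ x : mGrp ⧸ D, x ^ 3 = 1 := by
    intro x
    obtain ⟨n, rfl⟩ := hsurj x
    change (q (kElt hf) ^ n) ^ 3 = 1
    rw [← zpow_natCast, ← zpow_mul, mul_comm, zpow_mul, zpow_natCast, hcube, one_zpow]
  have hcomm : ∀ x y : mGrp ⧸ D, Commute x y := by
    intro x y
    obtain ⟨n, rfl⟩ := hsurj x
    obtain ⟨m, rfl⟩ := hsurj y
    exact Commute.zpow_zpow_self _ _ _
  have hk1 : q (kElt hf) = 1 := by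
    have hw : kElt hf = (aElt * aElt * bElt * aElt * bElt * bElt) ^ 4 := Subtype.ext (by
      rw [Subgroup.coe_pow]; exact gk_eq hf)
    have hre : q aElt * q aElt * q bElt * q aElt * q bElt * q bElt = q aElt ^ 3 * q bElt ^ 3 := by
      calc q aElt * q aElt * q bElt * q aElt * q bElt * q bElt
          = q aElt * q aElt * (q bElt * q aElt) * (q bElt * q bElt) := by simp only [mul_assoc]
        _ = q aElt * q aElt * (q aElt * q bElt) * (q bElt * q bElt) := by rw [(hcomm (q bElt) (q aElt)).eq]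
        _ = q aElt ^ 3 * q bElt ^ 3 := by simp only [pow_succ, pow_zero, one_mul, mul_assoc]
    rw [hw, map_pow, map_mul, map_mul, map_mul, map_mul, map_mul, hre, h3, h3, mul_one, one_pow]
  rw [eq_top_iff]
  intro x _
  have hx := hsurj (q x)
  rw [hK, hk1, Subgroup.zpowers_one_eq_bot, Subgroup.mem_bot] at hx
  exact (QuotientGroup.eq_one_iff x).1 hx

theorem small_index (S : Subgroup mGrp) (hi : S.index ≤ 30) : S = ⊤ ∨ 11 ∣ S.index := by
  haveI := qM_normal hf
  obtain ⟨e⟩ := exists_equiv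
  obtain ⟨ψ, hψs, hψ⟩ := exists_onto psiM t2 (psiM_range hf hcard)
  have hd : (S.map ψ).index ∣ S.index := Subgroup.index_map_dvd _ hψs
  have hS0 : S.index ≠ 0 := Subgroup.index_ne_zero_of_finite
  rcases Golay.index_dvd_eleven e (S.map ψ)
    ((Nat.le_of_dvd (Nat.pos_of_ne_zero hS0) hd).trans (hi.trans (by norm_num))) with h | h
  swap
  · exact Or.inr (h.trans hd)
  refine Or.inl ?_
  have hSN : ∀ x, ∃ s ∈ S, ∃ n ∈ psiM.ker, x = s * n := by
    intro x
    have hx : ψ x ∈ S.map ψ := h ▸ Subgroup.mem_top _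
    obtain ⟨s, hs, hsx⟩ := hx
    refine ⟨s, hs, s⁻¹ * x, ?_, (mul_inv_cancel_left _ _).symm⟩
    have h' : psiM s = psiM x := by
      rw [← hψ s, ← hψ x, hsx]
    rw [MonoidHom.mem_ker, map_mul, map_inv, h', inv_mul_cancel]
  -- modulo the extraspecial group
  set q := QuotientGroup.mk' qM with hq
  have hk : ∀ x : mGrp ⧸ qM, Commute (q (kElt hf)) x := by
    obtain ⟨⟨ea, hea, ha⟩, ⟨eb, heb, hb⟩⟩ := gk_commutes hf
    have one : ∀ (g : mGrp), (∃ e ∈ qGrp, g.1 * gk = e * (gk * g.1)) →
        Commute (q (kElt hf)) (q g) := by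
      rintro g ⟨e, he, h⟩
      have hem : e ∈ mGrp := qGrp_le_mGrp he
      have h2 : g * kElt hf = ⟨e, hem⟩ * (kElt hf * g) := Subtype.ext h
      unfold Commute SemiconjBy
      rw [← map_mul, ← map_mul, h2, map_mul q ⟨e, hem⟩,
        show q ⟨e, hem⟩ = 1 from (QuotientGroup.eq_one_iff _).2 (Subgroup.mem_subgroupOf.2 he), one_mul]
    intro x
    obtain ⟨y, rfl⟩ := QuotientGroup.mk'_surjective qM x
    have hy : y ∈ (Subgroup.centralizer {q (kElt hf)}).comap q := by
      have htop : (⊤ : Subgroup mGrp) ≤ (Subgroup.centralizer {q (kElt hf)}).comap q := by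
        rw [mGrp_gen]
        refine sup_le (fun z hz => ?_) ((Subgroup.closure_le _).2 ?_)
        · rw [Subgroup.mem_comap, hq, show QuotientGroup.mk' qM z = 1 from (QuotientGroup.eq_one_iff z).2 hz]
          exact one_mem _
        · rintro z (rfl | rfl) <;>
            rw [SetLike.mem_coe, Subgroup.mem_comap, Subgroup.mem_centralizer_singleton_iff]
          · exact (one aElt ⟨ea, hea, ha⟩).eq.symm
          · exact (one bElt ⟨eb, heb, hb⟩).eq.symm
      exact htop (Subgroup.mem_top y)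
    exact (Subgroup.mem_centralizer_singleton_iff.1 hy).symm
  have hdec : ∀ x : mGrp ⧸ qM, ∃ s ∈ S.map q, ∃ n : ℤ, x = s * q (kElt hf) ^ n := by
    intro x
    obtain ⟨y, rfl⟩ := QuotientGroup.mk'_surjective qM x
    obtain ⟨s, hs, n, hn, rfl⟩ := hSN y
    have hn' : q n ∈ Subgroup.zpowers (q (kElt hf)) := by
      rw [psiM_ker hf hcard] at hn
      have h1 := Subgroup.mem_map_of_mem q hn
      rw [Subgroup.map_sup, hq, QuotientGroup.map_mk'_self, bot_sup_eq, MonoidHom.map_zpowers] at h1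
      exact h1
    obtain ⟨j, hj⟩ := hn'
    exact ⟨q s, Subgroup.mem_map_of_mem q hs, j, by rw [map_mul, ← hj]⟩
  have hSQ : S.map q = ⊤ := by
    rw [eq_top_iff, ← Subgroup.map_top_of_surjective q (QuotientGroup.mk'_surjective qM),
      ← commutator_top hf hcard, commutator_def, Subgroup.map_commutator, Subgroup.commutator_le]
    rintro x - y -
    obtain ⟨s, hs, i, rfl⟩ := hdec x
    obtain ⟨t, ht, j, rfl⟩ := hdec y
    have hkk : ∀ (w : mGrp ⧸ qM) (i : ℤ), Commute w (q (kElt hf) ^ i) :=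
      fun w i => ((hk w).symm.zpow_right i)
    have : ⁅s * q (kElt hf) ^ i, t * q (kElt hf) ^ j⁆ = ⁅s, t⁆ := by
      set a := q (kElt hf) ^ i
      set b := q (kElt hf) ^ j
      have ha : ∀ w, Commute w a := fun w => hkk w i
      have hb : ∀ w, Commute w b := fun w => hkk w j
      simp only [commutatorElement_def, mul_inv_rev]
      calc s * a * (t * b) * (a⁻¹ * s⁻¹) * (b⁻¹ * t⁻¹)
          = s * (a * (t * b) * a⁻¹) * s⁻¹ * (b⁻¹ * t⁻¹) := by group
        _ = s * (t * b) * s⁻¹ * (b⁻¹ * t⁻¹) := by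
          rw [← (ha (t * b)).eq, mul_inv_cancel_right]
        _ = s * t * (b * s⁻¹ * b⁻¹) * t⁻¹ := by group
        _ = s * t * s⁻¹ * t⁻¹ := by rw [← (hb s⁻¹).eq, mul_inv_cancel_right]
    rw [this, commutatorElement_def]
    exact mul_mem (mul_mem (mul_mem hs ht) (inv_mem hs)) (inv_mem ht)
  have hSQ' : ∀ x, ∃ s ∈ S, ∃ n ∈ qM, x = s * n := by
    intro x
    have hx : q x ∈ S.map q := hSQ ▸ Subgroup.mem_top _
    obtain ⟨s, hs, hsx⟩ := hx
    refine ⟨s, hs, s⁻¹ * x, ?_, (mul_inv_cancel_left _ _).symm⟩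
    exact QuotientGroup.eq.1 hsx
  -- the intersection with the extraspecial group
  set X : Subgroup J := ((S ⊓ qM).map mGrp.subtype) ⊔ Subgroup.zpowers zz with hX
  have hXle : X ≤ qGrp := sup_le (by rintro x ⟨y, hy, rfl⟩; exact Subgroup.mem_subgroupOf.1 hy.2)
    (Subgroup.zpowers_le.2 zz_mem_qGrp)
  have hinv : ∀ g : mGrp, ∀ x ∈ X, g.1 * x * g.1⁻¹ ∈ X := by
    intro g x hx
    obtain ⟨s, hs, n, hn, rfl⟩ := hSQ' g
    have hle : X ≤ X.comap (MulAut.conj ((s * n : mGrp) : J)).toMonoidHom := by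
      refine sup_le ?_ (Subgroup.zpowers_le.2 ?_)
      · rintro y ⟨w, hw, rfl⟩
        change ((s * n : mGrp) : J) * w.1 * ((s * n : mGrp) : J)⁻¹ ∈ X
        obtain ⟨b, hb⟩ := swap_form hf (Subgroup.mem_subgroupOf.1 hn) (Subgroup.mem_subgroupOf.1 hw.2)
        have h1 : ((s * n : mGrp) : J) * w.1 * ((s * n : mGrp) : J)⁻¹ =
            (s * w * s⁻¹ : mGrp).1 * zB b := by
          simp only [Subgroup.coe_mul, Subgroup.coe_inv]
          have hzs : Commute (s.1⁻¹) (zB b) := by
            refine Commute.inv_left ?_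
            cases b
            · exact Commute.one_right _
            · exact Subgroup.mem_centralizer_singleton_iff.1
                (cGrp_le_centralizer hf (mGrp_le_cGrp s.2))
          calc s.1 * n.1 * w.1 * (s.1 * n.1)⁻¹ = s.1 * (n.1 * w.1) * n.1⁻¹ * s.1⁻¹ := by group
            _ = s.1 * w.1 * (n.1 * zB b * n.1⁻¹) * s.1⁻¹ := by rw [hb]; group
            _ = s.1 * w.1 * (zB b * s.1⁻¹) := by
              rw [← (commute_zB hf (Subgroup.mem_subgroupOf.1 hn) b).eq]; group
            _ = s.1 * w.1 * s.1⁻¹ * zB b := by rw [← hzs.eq]; group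
        rw [h1]
        have hwS : w ∈ S := hw.1
        have hwQ : w ∈ qM := hw.2
        refine mul_mem (Subgroup.mem_sup_left (Subgroup.mem_map_of_mem mGrp.subtype
          (Subgroup.mem_inf.2 ⟨mul_mem (mul_mem hs hwS) (inv_mem hs),
            (qM_normal hf).conj_mem _ hwQ _⟩))) ?_
        cases b
        · exact one_mem _
        · exact Subgroup.mem_sup_right (Subgroup.mem_zpowers zz)
      · change ((s * n : mGrp) : J) * zz * ((s * n : mGrp) : J)⁻¹ ∈ X
        rw [Subgroup.mem_centralizer_singleton_iff.1 (cGrp_le_centralizer hf (mGrp_le_cGrp (s * n).2)),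
          mul_inv_cancel_right]
        exact Subgroup.mem_sup_right (Subgroup.mem_zpowers zz)
    exact hle hx
  rcases irred hf hXle (hinv aElt) (hinv bElt) with h' | h'
  · classical
    exfalso
    have hcardS : Nat.card (S ⊓ qM : Subgroup mGrp) ≤ 2 := by
      rw [← Subgroup.card_map_of_injective (Subgroup.subtype_injective mGrp)]
      refine (Subgroup.card_le_of_le (le_sup_left : _ ≤ X)).trans ?_
      refine (Nat.card_le_card_of_injective (fun x : X => if x.1 = 1 then (0 : Fin 2) else 1) ?_).trans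
        (Nat.card_fin 2).le
      intro x y hxy
      apply Subtype.ext
      rcases h' _ x.2 with hx | hx <;> rcases h' _ y.2 with hy | hy <;>
        simp_all [zz_ne]
    have h1 : (S ⊓ qM).relIndex qM ≤ 30 := by
      rw [Subgroup.inf_relIndex_right]
      refine le_trans ?_ hi
      have h0 : S.relIndex ⊤ ≠ 0 := by rw [Subgroup.relIndex_top_right]; exact hS0
      have := Subgroup.relIndex_le_of_le_right (H := S) (le_top : qM ≤ ⊤) h0
      rwa [Subgroup.relIndex_top_right] at this
    have h2 : Nat.card (S ⊓ qM : Subgroup mGrp) * (S ⊓ qM).relIndex qM = 8192 := by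
      rw [← card_qGrp hf, ← Nat.card_congr (Subgroup.subgroupOfEquivOfLe qGrp_le_mGrp).toEquiv,
        ← qM]
      rw [Subgroup.relIndex, ← Nat.card_congr (Subgroup.subgroupOfEquivOfLe (inf_le_right : S ⊓ qM ≤ qM)).toEquiv,
        Subgroup.card_mul_index]
    have := Nat.mul_le_mul hcardS h1
    omega
  · have hgen : ∀ k < 12, ∃ b, qq k * zB b ∈ (S ⊓ qM).map mGrp.subtype := by
      intro k hk
      have hq' : qq k ∈ X := h' ▸ qq_mem_qGrp hk
      rw [hX] at hq'
      obtain ⟨y, hy, w, hyw⟩ := exists_mul_of_mem_sup hf ((S ⊓ qM).map mGrp.subtype)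
        (by rintro x ⟨u, hu, rfl⟩; exact Subgroup.mem_subgroupOf.1 hu.2) hq'
      exact ⟨w, by rw [hyw, mul_assoc, zB_mul hf, Bool.xor_self, zB, mul_one]; exact hy⟩
    set T := (S ⊓ qM).map mGrp.subtype with hT
    have hz : zz ∈ T := by
      obtain ⟨c, hc⟩ := hgen 0 (by norm_num)
      obtain ⟨d, hd⟩ := hgen 6 (by norm_num)
      have h1 := mul_mem (inv_mem (mul_mem hd hc)) (mul_mem hc hd)
      rw [comm_zero_six hf c d] at h1
      exact h1
    have hQS : qM ≤ S := by
      have : qGrp ≤ T := by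
        refine (Subgroup.closure_le _).2 ?_
        rintro x (rfl | ⟨k, hk, rfl⟩)
        · exact hz
        · obtain ⟨c, hc⟩ := hgen k hk
          have : zB c ∈ T := by cases c <;> [exact one_mem _; exact hz]
          exact (Subgroup.mul_mem_cancel_right _ this).1 hc
      intro x hx
      obtain ⟨y, hy, hyx⟩ := this (Subgroup.mem_subgroupOf.1 hx)
      rw [← Subtype.ext hyx]
      exact hy.1
    rw [eq_top_iff]
    intro x _
    obtain ⟨s, hs, n, hn, rfl⟩ := hSQ' x
    exact mul_mem hs (hQS hn)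

end Cfsg.Agent.H45.J4Inv
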