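import Cfsg.Agent.H45.J4Inv.Upper
import Cfsg.Agent.H92.ExtraIso
import Cfsg.Prelude.Def_Sporadic

/-!
The centraliser of an involution in the presented group `J4`.
-/

set_option autoImplicit false
set_option maxRecDepth 100000

namespace Cfsg.Agent.H45.J4Inv

open Cfsg Cfsg.Agent.H45 Cfsg.Agent.H45.J4Rep Cfsg.Agent.H46.J4Out

section General

variable {G H : Type*} [Group G] [Group H] [Finite G]

/-- assembling the structure from subgroups of the whole group -/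
theorem structure_of {C Q0 N0 M0 : Subgroup G} (hQN : Q0 ≤ N0) (hNM : N0 ≤ M0) (hMC : M0 ≤ C)
    {T : Subgroup H} (f : M0 →* T) (hf : Function.Surjective f) (hker : f.ker = N0.subgroupOf M0)
    (hQn : ∀ g ∈ C, ∀ e ∈ Q0, g * e * g⁻¹ ∈ Q0) (hNn : ∀ g ∈ C, ∀ e ∈ N0, g * e * g⁻¹ ∈ N0)
    (hQ : Cfsg.IsExtraspecial 2 Q0) (cQ : Nat.card Q0 = 2 ^ 13) (cN : Nat.card N0 = 3 * 2 ^ 13)
    (hM : Nat.card C = 2 * Nat.card M0) (hT : Cfsg.IsM22 T) :
    ∃ Q N M : Subgroup C, Q.Normal ∧ N.Normal ∧ Q ≤ N ∧ N ≤ M ∧ Nat.card Q = 2 ^ 13 ∧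
      Cfsg.IsExtraspecial 2 Q ∧ Nat.card N = 3 * 2 ^ 13 ∧ M.index = 2 ∧
      ∃ (_ : (N.subgroupOf M).Normal), Cfsg.IsM22 (M ⧸ N.subgroupOf M) := by
  have hNC : N0 ≤ C := hNM.trans hMC
  have hQC : Q0 ≤ C := hQN.trans hNC
  have hNnorm : (N0.subgroupOf C).Normal :=
    ⟨fun n hn g => Subgroup.mem_subgroupOf.2 (hNn g g.2 n (Subgroup.mem_subgroupOf.1 hn))⟩
  refine ⟨Q0.subgroupOf C, N0.subgroupOf C, M0.subgroupOf C,
    ⟨fun n hn g => Subgroup.mem_subgroupOf.2 (hQn g g.2 n (Subgroup.mem_subgroupOf.1 hn))⟩, hNnorm,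
    fun x hx => hQN hx, fun x hx => hNM hx,
    (Nat.card_congr (Subgroup.subgroupOfEquivOfLe hQC).toEquiv).trans cQ,
    H92.isExtraspecial_of_mulEquiv (Subgroup.subgroupOfEquivOfLe hQC).symm hQ,
    (Nat.card_congr (Subgroup.subgroupOfEquivOfLe hNC).toEquiv).trans cN, ?_,
    hNnorm.subgroupOf _, ?_⟩
  · have h := (M0.subgroupOf C).card_mul_index
    rw [Nat.card_congr (Subgroup.subgroupOfEquivOfLe hMC).toEquiv, hM, Nat.mul_comm 2] at h
    exact Nat.eq_of_mul_eq_mul_left Nat.card_pos h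
  · haveI := hT.1
    let e := Subgroup.subgroupOfEquivOfLe hMC
    let ψ : M0.subgroupOf C →* T := f.comp e.toMonoidHom
    have hψ : ψ.ker = (N0.subgroupOf C).subgroupOf (M0.subgroupOf C) := by
      ext x
      change e x ∈ f.ker ↔ _
      rw [hker]
      rfl
    haveI : ((N0.subgroupOf C).subgroupOf (M0.subgroupOf C)).Normal := hNnorm.subgroupOf _
    let E := (QuotientGroup.quotientMulEquivOfEq hψ.symm).trans
      (QuotientGroup.quotientKerEquivOfSurjective ψ (hf.comp e.surjective))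
    refine ⟨?_, (Nat.card_congr E.toEquiv).trans hT.2⟩
    haveI : Nontrivial T := hT.1.toNontrivial
    haveI : Nontrivial ((M0.subgroupOf C) ⧸ (N0.subgroupOf C).subgroupOf (M0.subgroupOf C)) :=
      E.toEquiv.nontrivial
    exact IsSimpleGroup.isSimpleGroup_of_surjective E.symm.toMonoidHom E.symm.surjective

end General

theorem isM22_t2 : IsM22 t2 := by
  obtain ⟨e⟩ := exists_equiv
  haveI := Golay.isSimpleGroup_spor_M22
  haveI : Nontrivial t2 := Finite.one_lt_card_iff_nontrivial.1 (by rw [card_t2]; norm_num)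
  exact ⟨IsSimpleGroup.isSimpleGroup_of_surjective e.symm.toMonoidHom e.symm.surjective, card_t2⟩

/-- the involution centraliser of the presented group -/
theorem main [Finite J] (hcard : Nat.card J = 86775571046077562880) (hsimple : IsSimpleGroup J) :
    ∃ (G : Type) (_ : Group G) (_ : Finite G), Cfsg.IsJ4 G ∧ ∃ z : G, orderOf z = 2 ∧
      ∃ (Q N M : Subgroup (Subgroup.centralizer ({z} : Set G))), Q.Normal ∧ N.Normal ∧ Q ≤ N ∧
        N ≤ M ∧ Nat.card Q = 2 ^ 13 ∧ Cfsg.IsExtraspecial 2 Q ∧ Nat.card N = 3 * 2 ^ 13 ∧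
        M.index = 2 ∧ ∃ (_ : (N.subgroupOf M).Normal), Cfsg.IsM22 (M ⧸ N.subgroupOf M) := by
  have hf : Faithful := H46.J4Out.faithful hsimple
  have hz : orderOf zz = 2 :=
    orderOf_eq_prime (by rw [pow_two]; exact zz_sq hf) zz_ne
  obtain ⟨hcC, hcN, hNk, -⟩ := card_facts hf hcard
  obtain ⟨hcM, -, -⟩ := card_mGrp hf hcard
  refine ⟨J, inferInstance, inferInstance, ⟨hsimple, hcard⟩, zz, hz, ?_⟩
  obtain ⟨ψ, hψs, hψ⟩ := exists_onto psiM t2 (psiM_range hf hcard)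
  rw [centralizer_eq hf hcard]
  have hkerψ : ψ.ker = psiM.ker := by
    ext x
    rw [MonoidHom.mem_ker, MonoidHom.mem_ker, ← hψ x]
    exact Subtype.ext_iff
  have hkerN : psiM.ker = nGrp.subgroupOf mGrp := by
    rw [psiM_ker hf hcard, qM]
    apply Subgroup.map_injective (Subgroup.subtype_injective mGrp)
    rw [Subgroup.map_sup, Subgroup.map_subgroupOf_eq_of_le qGrp_le_mGrp, MonoidHom.map_zpowers,
      Subgroup.zpowers_eq_closure, kElt_coe hf, Subgroup.map_subgroupOf_eq_of_le (nGrp_le_mGrp hf), nGrp]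
  have hNn : ∀ g ∈ cGrp, ∀ e ∈ nGrp, g * e * g⁻¹ ∈ nGrp := by
    intro g hg e he
    rw [hNk] at he ⊢
    obtain ⟨k, hk, rfl⟩ := he
    exact Subgroup.mem_map_of_mem cGrp.subtype
      ((MonoidHom.normal_ker piHom).conj_mem k hk ⟨g, hg⟩)
  refine structure_of (Q0 := qGrp) (N0 := nGrp) le_sup_left (nGrp_le_mGrp hf) mGrp_le_cGrp ψ hψs (hkerψ.trans hkerN)
    (fun g hg e he => cGrp_conj hf hg he) hNn (isExtraspecial_qGrp hf) ?_ ?_ ?_ isM22_t2
  · rw [card_qGrp hf]; norm_num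
  · rw [hcN]; norm_num
  · rw [hcC, hcM]

end Cfsg.Agent.H45.J4Inv
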