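import Cfsg.Agent.H45.J4Inv.Stab

/-!
The Sylow 11-subgroup and the fixed vectors of elements of order dividing eleven.
-/

set_option autoImplicit false
set_option maxRecDepth 100000

namespace Cfsg.Agent.H45.J4Inv

open Cfsg Cfsg.Agent.H45 Cfsg.Agent.H45.J4Rep Cfsg.Agent.H45.J4Mat Cfsg.Agent.H46.J4Out

theorem heis_checks : (Nat.beq (mulN 112 pPN cPN) (mulN 112 cPN pPN) &&
    Nat.beq (mulN 112 qPN cPN) (mulN 112 cPN qPN) &&
    Nat.beq (mulN 112 (mulN 112 qPN pPN) cPN) (mulN 112 pPN qPN) &&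
    Nat.beq (powN 112 pPN 11) (oneN 112 112) && Nat.beq (powN 112 qPN 11) (oneN 112 112) &&
    Nat.beq (powN 112 cPN 11) (oneN 112 112)) = true := by
  decide +kernel

theorem rep_checks : (Nat.beq (repN 0) qPN && ((List.range 11).all fun j =>
    Nat.beq (repN (j + 1)) (mulN 112 pPN (powN 112 qPN j)))) = true := by
  decide +kernel

theorem pq_differs : differs (mulN 112 pPN qPN) (mulN 112 qPN pPN) = true := by decide +kernel

variable (hf : Faithful)
include hf

/-- the Sylow 11-subgroup -/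
noncomputable def pSyl : Subgroup J := Subgroup.closure {pP, qP, cP}

theorem heis_rels : Commute pP cP ∧ Commute qP cP ∧ qP * pP = pP * qP * cP⁻¹ ∧
    pP ^ 11 = 1 ∧ qP ^ 11 = 1 ∧ cP ^ 11 = 1 := by
  have h := heis_checks
  simp only [Bool.and_eq_true] at h
  obtain ⟨⟨⟨⟨⟨h1, h2⟩, h3⟩, h4⟩, h5⟩, h6⟩ := h
  refine ⟨R.eq' hf (r_pP.mul' r_cP) (r_cP.mul' r_pP) (Nat.eq_of_beq_eq_true h1),
    R.eq' hf (r_qP.mul' r_cP) (r_cP.mul' r_qP) (Nat.eq_of_beq_eq_true h2), ?_,
    pow_eq_one hf r_pP h4, pow_eq_one hf r_qP h5, pow_eq_one hf r_cP h6⟩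
  rw [eq_mul_inv_iff_mul_eq]
  exact R.eq' hf ((r_qP.mul' r_pP).mul' r_cP) (r_pP.mul' r_qP) (Nat.eq_of_beq_eq_true h3)

omit hf in
theorem not_comm : pP * qP ≠ qP * pP :=
  (r_pP.mul' r_qP).ne' (r_qP.mul' r_pP) pq_differs

theorem mem_pSyl {e : J} (he : e ∈ pSyl) : e ^ 11 = 1 ∧ (e = 1 ∨ fixCard e ≤ 2 ^ 12) := by
  obtain ⟨hpc, hqc, hpq, hp, hq, hc⟩ := heis_rels hf
  have hrep0 : rep 0 = qP := by
    have h := rep_checks
    simp only [Bool.and_eq_true] at h
    exact R.eq' hf (r_rep 0) r_qP (Nat.eq_of_beq_eq_true h.1)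
  have hrepj : ∀ j : Fin 11, rep ((j : ℕ) + 1) = pP * qP ^ (j : ℕ) := by
    intro j
    have h := rep_checks
    simp only [Bool.and_eq_true] at h
    exact R.eq' hf (r_rep _) (r_pP.mul' (r_qP.pow _))
      (Nat.eq_of_beq_eq_true (List.all_eq_true.1 h.2 _ (List.mem_range.2 j.2)))
  have h11 : Nat.Prime 11 := by norm_num
  rcases heis_conj hpc hqc hpq hp hq hc he with ⟨l, rfl⟩ | ⟨g, k, hk, rfl⟩ | ⟨g, k, j, hk, rfl⟩
  · refine ⟨by rw [← pow_mul, mul_comm, pow_mul, hc, one_pow], ?_⟩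
    by_cases hl : 11 ∣ l
    · obtain ⟨m, rfl⟩ := hl
      exact Or.inl (by rw [pow_mul, hc, one_pow])
    · refine Or.inr ?_
      rw [fixCard_pow h11 hc hl]
      exact fix_cP.trans (Nat.pow_le_pow_right (by norm_num) (by norm_num))
  · refine ⟨by rw [conj_pow, ← pow_mul, mul_comm, pow_mul, hq, one_pow, mul_one, mul_inv_cancel],
      Or.inr ?_⟩
    rw [fixCard_conj, fixCard_pow h11 hq hk, ← hrep0]
    exact fix_rep 0 (by norm_num)
  · have hpow : (pP * qP ^ (j : ℕ)) ^ 11 = 1 := by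
      have hmem : pP * qP ^ (j : ℕ) ∈ Subgroup.closure {pP, qP, cP} :=
        mul_mem (Subgroup.subset_closure (by simp))
          (pow_mem (Subgroup.subset_closure (by simp)) _)
      rw [← hrepj]
      exact pow_eq_one hf (r_rep _) (rep_pow j)
    refine ⟨by rw [conj_pow, ← pow_mul, mul_comm, pow_mul, hpow, one_pow, mul_one, mul_inv_cancel],
      Or.inr ?_⟩
    rw [fixCard_conj, fixCard_pow h11 hpow hk, ← hrepj]
    exact fix_rep _ (by omega)
where
  rep_pow (j : Fin 11) : Nat.beq (powN 112 (repN ((j : ℕ) + 1)) 11) (oneN 112 112) = true := by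
    revert j
    decide +kernel

theorem card_pSyl [Finite J] (hcard : Nat.card J = 86775571046077562880) :
    Nat.card pSyl = 11 ^ 3 ∧ (Nat.card J).factorization 11 = 3 := by
  haveI : Fact (Nat.Prime 11) := ⟨by norm_num⟩
  have hpg : IsPGroup 11 pSyl := fun x => ⟨1, Subtype.ext (by
    rw [pow_one, Subgroup.coe_pow]; exact (mem_pSyl hf x.2).1)⟩
  obtain ⟨n, hn⟩ := hpg.exists_card_eq
  have h4 : ¬ 11 ^ 4 ∣ Nat.card J := by rw [hcard]; norm_num
  have h3 : 11 ^ 3 ∣ Nat.card J := by rw [hcard]; norm_num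
  have hfac : (Nat.card J).factorization 11 = 3 := by
    have hp : Nat.Prime 11 := by norm_num
    have a := (hp.pow_dvd_iff_le_factorization (Nat.card_pos (α := J)).ne').1 h3
    have b := fun h => h4 ((hp.pow_dvd_iff_le_factorization (Nat.card_pos (α := J)).ne').2 h)
    rcases Nat.lt_or_ge ((Nat.card J).factorization 11) 4 with h | h
    · omega
    · exact (b h).elim
  refine ⟨?_, hfac⟩
  have hle : n ≤ 3 := by
    by_contra hlt
    exact h4 (dvd_trans (pow_dvd_pow 11 (by omega)) (hn ▸ pSyl.card_subgroup_dvd_card))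
  obtain ⟨hpc, hqc, hpq, -, -, hc⟩ := heis_rels hf
  set A := Subgroup.zpowers cP
  set B := Subgroup.closure {cP, qP}
  have hAB : A < B := by
    refine lt_of_le_of_ne (Subgroup.zpowers_le.2 (Subgroup.subset_closure (Or.inl rfl))) fun h => ?_
    have hq : qP ∈ A := h ▸ Subgroup.subset_closure (Or.inr rfl)
    obtain ⟨k, hk⟩ := hq
    exact not_comm (hk ▸ (hpc.zpow_right k).eq)
  have hBP : B < pSyl := by
    refine lt_of_le_of_ne (Subgroup.closure_mono (by rintro x (rfl | rfl) <;> simp)) fun h => ?_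
    have hp : pP ∈ B := h ▸ Subgroup.subset_closure (Or.inl rfl)
    have hcen : B ≤ Subgroup.centralizer {qP} := by
      refine (Subgroup.closure_le _).2 ?_
      rintro x (rfl | rfl)
      · exact Subgroup.mem_centralizer_singleton_iff.2 hqc.symm.eq
      · exact Subgroup.mem_centralizer_singleton_iff.2 rfl
    exact not_comm (Subgroup.mem_centralizer_singleton_iff.1 (hcen hp))
  have hA : Nat.card A = 11 := by
    rw [Nat.card_zpowers]
    refine orderOf_eq_prime hc fun h => ?_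
    apply not_comm
    rw [h, inv_one, mul_one] at hpq
    exact hpq.symm
  obtain ⟨m, hm⟩ := (hpg.to_le hBP.le).exists_card_eq
  have c1 : Nat.card A < Nat.card B := by
    refine lt_of_le_of_ne (Subgroup.card_le_of_le hAB.le) fun h => hAB.ne ?_
    exact Subgroup.eq_of_le_of_card_ge hAB.le h.ge
  have c2 : Nat.card B < Nat.card pSyl := by
    refine lt_of_le_of_ne (Subgroup.card_le_of_le hBP.le) fun h => hBP.ne ?_
    exact Subgroup.eq_of_le_of_card_ge hBP.le h.ge
  rw [hA, hm] at c1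
  rw [hm, hn] at c2
  have d1 : 1 < m := (Nat.pow_lt_pow_iff_right (by norm_num : 1 < 11)).1 (by simpa using c1)
  have d2 : m < n := (Nat.pow_lt_pow_iff_right (by norm_num : 1 < 11)).1 c2
  rw [hn]
  congr 1
  omega

/-- elements of order dividing eleven fix few vectors -/
theorem fix_eleven [Finite J] (hcard : Nat.card J = 86775571046077562880) {a : J}
    (ha : a ^ 11 = 1) (h1 : a ≠ 1) : fixCard a ≤ 2 ^ 12 := by
  haveI : Fact (Nat.Prime 11) := ⟨by norm_num⟩
  obtain ⟨hc, hfac⟩ := card_pSyl hf hcard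
  have ho : orderOf a = 11 := orderOf_eq_prime ha h1
  have hR : IsPGroup 11 (Subgroup.zpowers a) :=
    IsPGroup.of_card (n := 1) (by rw [Nat.card_zpowers, ho, pow_one])
  obtain ⟨g, hg⟩ := exists_conj_mem pSyl (Subgroup.zpowers a) (by rw [hc, hfac]) hR
  rcases (mem_pSyl hf (hg a (Subgroup.mem_zpowers a))).2 with h | h
  · exact absurd (conj_eq_one_iff.1 h) h1
  · rwa [fixCard_conj] at h

end Cfsg.Agent.H45.J4Inv
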