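import Cfsg.Agent.H45.J4Inv.MFacts
import Cfsg.Agent.H45.J4Inv.Sylow11

/-!
The centraliser of the involution in the presented group `J4` is the candidate.
-/

set_option autoImplicit false
set_option maxRecDepth 100000

namespace Cfsg.Agent.H45.J4Inv

open scoped commutatorElement Matrix
open Cfsg Cfsg.Agent.H45 Cfsg.Agent.H45.J4Rep Cfsg.Agent.H45.J4Mat Cfsg.Agent.H46.J4Out

theorem gr_check : Nat.beq grN (powN 112 (mulN 112 gAN gBN) 3) = true := by decide +kernel

theorem arith_small : (¬ ∃ j ∈ [0], 2 ^ 50 % 29 = 2 ^ j % 29) ∧ (¬ ∃ j ∈ [0], 2 ^ 50 % 43 = 2 ^ j % 43) ∧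
    (¬ ∃ j ∈ [0, 1], 2 ^ 50 % 23 = 2 ^ j % 23) ∧ (¬ ∃ j ∈ [0, 1, 2], 2 ^ 50 % 37 = 2 ^ j % 37) ∧
    (∀ j ∈ [0, 1, 2, 3, 4, 5, 6], 2 ^ 50 % 11 = 2 ^ j % 11 → j = 0) ∧
    (¬ 121 ∣ 2 ^ 50 - 1) ∧ (∀ i ∈ [0, 1, 2], 2 ^ 15 % 11 ≠ 2 ^ i % 11) := by
  decide

section General

variable {G α : Type*} [Group G] [MulAction G α] [Finite α]

theorem dvd_of_orbits {p : ℕ} {b : α} (hb : b ∈ MulAction.fixedPoints G α)
    (h : ∀ x : α, x ≠ b → p ∣ Nat.card (MulAction.orbit G x)) : p ∣ Nat.card α - 1 := by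
  classical
  haveI : Fintype α := Fintype.ofFinite α
  haveI : Fintype (Quotient (MulAction.orbitRel G α)) := Fintype.ofFinite _
  rw [Nat.card_congr (MulAction.selfEquivSigmaOrbits' G α), Nat.card_sigma,
    ← Finset.add_sum_erase _ _ (Finset.mem_univ (Quotient.mk'' b : Quotient (MulAction.orbitRel G α))),
    MulAction.orbitRel.Quotient.orbit_mk, Nat.card_coe_set_eq,
    show MulAction.orbit G b = {b} from Set.ext fun y => ⟨fun hy => by
      obtain ⟨g, rfl⟩ := MulAction.mem_orbit_iff.1 hy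
      exact hb g, fun hy => by rw [Set.mem_singleton_iff.1 hy]; exact MulAction.mem_orbit_self b⟩,
    Set.ncard_singleton, Nat.add_sub_cancel_left]
  refine Finset.dvd_sum fun ω hω => ?_
  induction ω using Quotient.inductionOn' with
  | _ x =>
    rw [MulAction.orbitRel.Quotient.orbit_mk]
    exact h x fun e => (Finset.mem_erase.1 hω).1 (by rw [e])

end General

theorem poly_comm {A' : Type*} [Semiring A'] {A B : A'} (h : Commute A B) :
    B * (A ^ 5 + A ^ 4 + A ^ 2 + A + 1) = (A ^ 5 + A ^ 4 + A ^ 2 + A + 1) * B :=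
  ((((((h.pow_left 5).add_left (h.pow_left 4)).add_left (h.pow_left 2)).add_left h).add_left
    (Commute.one_left B)).eq).symm

theorem ker_invariant {g : J} (h : Commute ((rho a31 : GL112) : Mx) ((rho g : GL112) : Mx)) {v : Vec}
    (hv : v ᵥ* kM = 0) : act v g ᵥ* kM = 0 := by
  have hk : ((rho g : GL112) : Mx) * kM = kM * ((rho g : GL112) : Mx) := by
    rw [kM_eq]
    exact poly_comm h
  rw [act, Matrix.vecMul_vecMul, hk, ← Matrix.vecMul_vecMul, hv, Matrix.zero_vecMul]

variable (hf : Faithful)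
include hf

theorem gr_mem_mGrp : gr ∈ mGrp := by
  have h : gr = (gA * gB) ^ 3 :=
    R.eq' hf r_gr ((r_gA.mul' r_gB).pow 3) (Nat.eq_of_beq_eq_true gr_check)
  rw [h]
  exact pow_mem (mul_mem gA_mem_mGrp gB_mem_mGrp) 3

variable [Finite J] (hcard : Nat.card J = 86775571046077562880)
include hcard

/-- primes excluded by the fixed vectors in the image of `zz + 1` -/
theorem not_dvd_cent {p : ℕ} (hp : p.Prime) (hodd : p ≠ 2) {e : J} (he : orderOf e = p)
    (hsq : ¬ p ^ 2 ∣ Nat.card J) {f : ℕ} (hfix : fixCard e ≤ 2 ^ f)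
    (harith : ∀ j, 2 * j ≤ f → 2 ^ 50 % p ≠ 2 ^ j % p) :
    ¬ p ∣ Nat.card (Subgroup.centralizer ({zz} : Set J)) := by
  intro hd
  haveI := Fact.mk hp
  obtain ⟨a, ha⟩ := exists_prime_orderOf_dvd_card' p hd
  rw [← Subgroup.orderOf_coe] at ha
  obtain ⟨g, k, hk, hak⟩ := exists_conj_of_prime hsq he ha
  have hap : (a : J) ^ p = 1 := ha ▸ pow_orderOf_eq_one _
  have hfa : fixCard (a : J) ≤ 2 ^ f := by
    rw [hak, fixCard_conj, fixCard_pow hp (he ▸ pow_orderOf_eq_one e) hk]
    exact hfix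
  obtain ⟨j, hj, hm, -⟩ := fix_Wsp hf (Subgroup.mem_centralizer_singleton_iff.1 a.2) hp hodd hap hfa
  exact harith j hj hm

attribute [local irreducible] act in
theorem not_dvd_121 : ¬ 121 ∣ Nat.card (Subgroup.centralizer ({zz} : Set J)) := by
  intro hd
  haveI : Fact (Nat.Prime 11) := ⟨by norm_num⟩
  obtain ⟨R0, hR0⟩ := Sylow.exists_subgroup_card_pow_prime 11 (n := 2) (by simpa using hd)
  obtain ⟨hc, hfac⟩ := card_pSyl hf hcard
  set R1 : Subgroup J := R0.map (Subgroup.centralizer ({zz} : Set J)).subtype with hR1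
  have hcR : Nat.card R1 = 121 := by
    rw [hR1, Subgroup.card_map_of_injective (Subgroup.subtype_injective _), hR0]; norm_num
  have hpg : IsPGroup 11 R1 := IsPGroup.of_card (n := 2) (by rw [hcR]; norm_num)
  obtain ⟨g, hg⟩ := exists_conj_mem pSyl R1 (by rw [hc, hfac]) hpg
  have hcent : ∀ r ∈ R1, Commute r zz := by
    rintro r ⟨x, -, rfl⟩
    exact Subgroup.mem_centralizer_singleton_iff.1 x.2
  have hfree : ∀ r ∈ R1, r ≠ 1 → ∀ v ∈ Wsp, act v r = v → v = 0 := by
    intro r hr hr1 v hv hfix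
    have h11 : r ^ 11 = 1 := by
      have h := (mem_pSyl hf (hg r hr)).1
      rwa [conj_pow, conj_eq_one_iff] at h
    obtain ⟨j, hj, hm, hcardj⟩ := fix_Wsp hf (hcent r hr) (by norm_num) (by norm_num) h11
      (fix_eleven hf hcard h11 hr1)
    have hj0 : j = 0 := arith_small.2.2.2.2.1 j (by simp only [List.mem_cons]; omega) hm
    rw [hj0, pow_zero] at hcardj
    haveI := (Nat.card_eq_one_iff_unique.1 hcardj).1
    exact congrArg Subtype.val (Subsingleton.elim (⟨v, hfix, hv⟩ : ↥(fixV r ⊓ Wsp)) 0)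
  letI : MulAction R1 {v : Vec // v ∈ Wsp ∧ v ≠ 0} :=
    { smul := fun r v => ⟨act v.1 (r : J)⁻¹, by
        obtain ⟨u, hu⟩ := v.2.1
        exact ⟨act u (r : J)⁻¹, by rw [← hu]; exact (zM_comm (hcent _ (inv_mem r.2)) u).symm⟩,
        fun h => v.2.2 (by
          have := congrArg (fun w => act w (r : J)) h
          simpa [act_cancel_inv, act_zero] using this)⟩
      one_smul := fun v => Subtype.ext (by
        change act v.1 ((1 : R1) : J)⁻¹ = v.1
        simp [act_one])
      mul_smul := fun r s v => Subtype.ext (by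
        change act v.1 ((r * s : R1) : J)⁻¹ = act (act v.1 (s : J)⁻¹) (r : J)⁻¹
        rw [← act_mul, Subgroup.coe_mul, mul_inv_rev]) }
  have hstab : ∀ v : {v : Vec // v ∈ Wsp ∧ v ≠ 0}, MulAction.stabilizer R1 v = ⊥ := by
    intro v
    rw [eq_bot_iff]
    intro r hr
    rw [Subgroup.mem_bot]
    by_contra hne
    refine v.2.2 (hfree (r : J)⁻¹ (inv_mem r.2) ?_ v.1 v.2.1 ?_)
    · rw [ne_eq, inv_eq_one]
      exact fun h => hne (Subtype.ext h)
    · exact congrArg Subtype.val (MulAction.mem_stabilizer_iff.1 hr)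
  have hdiv : 121 ∣ Nat.card {v : Vec // v ∈ Wsp ∧ v ≠ 0} := by
    classical
    haveI : Fintype (Quotient (MulAction.orbitRel R1 {v : Vec // v ∈ Wsp ∧ v ≠ 0})) := Fintype.ofFinite _
    rw [Nat.card_congr (MulAction.selfEquivSigmaOrbits' R1 _), Nat.card_sigma]
    refine Finset.dvd_sum fun ω _ => ?_
    induction ω using Quotient.inductionOn' with
    | _ x =>
      rw [MulAction.orbitRel.Quotient.orbit_mk, Nat.card_coe_set_eq, ← MulAction.index_stabilizer,
        hstab x, Subgroup.index_bot, hcR]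
  have hW : Nat.card {v : Vec // v ∈ Wsp ∧ v ≠ 0} = 2 ^ 50 - 1 := by
    rw [← card_Wsp]
    have h1 : {v : Vec | v ∈ Wsp ∧ v ≠ 0} = (Wsp : Set Vec) \ {0} := rfl
    change Nat.card ({v : Vec | v ∈ Wsp ∧ v ≠ 0} : Set Vec) = _
    rw [h1, Nat.card_coe_set_eq, Set.ncard_sdiff_singleton_of_mem (zero_mem Wsp), ← Nat.card_coe_set_eq]
    rfl
  exact arith_small.2.2.2.2.2.1 (hW ▸ hdiv)

set_option maxHeartbeats 1000000 in
theorem normal_of_31 (h31 : Nat.card (Subgroup.centralizer ({zz} : Set J)) = 31 * 21799895040) :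
    Subgroup.centralizer ({zz} : Set J) ≤ Subgroup.normalizer (mGrp : Set J) := by
  set C := Subgroup.centralizer ({zz} : Set J) with hC
  set B := cGrp.subgroupOf C with hB
  have hcB : Nat.card B = 21799895040 := by
    rw [Nat.card_congr (Subgroup.subgroupOfEquivOfLe (cGrp_le_centralizer hf)).toEquiv]
    exact (card_facts hf hcard).1
  have hidx : B.index = 31 := by
    have h := B.card_mul_index
    rw [hcB, h31] at h
    exact Nat.eq_of_mul_eq_mul_left (by norm_num) (h.trans (Nat.mul_comm _ _))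
  set inc := Subgroup.inclusion (mGrp_le_cGrp.trans (cGrp_le_centralizer hf)) with hinc
  letI : MulAction mGrp (C ⧸ B) := MulAction.compHom _ inc
  have hsmul : ∀ (m : mGrp) (x : C), m • (QuotientGroup.mk x : C ⧸ B) = QuotientGroup.mk (inc m * x) :=
    fun _ _ => rfl
  have hbase : (QuotientGroup.mk 1 : C ⧸ B) ∈ MulAction.fixedPoints mGrp (C ⧸ B) := by
    intro m
    rw [hsmul, mul_one]
    refine QuotientGroup.eq.2 ?_
    rw [mul_one]
    exact inv_mem (Subgroup.mem_subgroupOf.2 (mGrp_le_cGrp m.2))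
  have hex : ∃ g : C, g ∉ B ∧ (QuotientGroup.mk g : C ⧸ B) ∈ MulAction.fixedPoints mGrp (C ⧸ B) := by
    by_contra hne
    push Not at hne
    have h := dvd_of_orbits (p := 11) hbase fun x hx => ?_
    · rw [← Subgroup.index_eq_card, hidx] at h
      norm_num at h
    induction x using QuotientGroup.induction_on with
    | H g =>
    have hgB : g ∉ B := fun hg => hx (QuotientGroup.eq.2 (by rw [mul_one]; exact inv_mem hg))
    have e : Nat.card (MulAction.orbit mGrp (QuotientGroup.mk g : C ⧸ B)) =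
        (MulAction.stabilizer mGrp (QuotientGroup.mk g : C ⧸ B)).index := by
      rw [MulAction.index_stabilizer, Nat.card_coe_set_eq]
    have hle : Nat.card (MulAction.orbit mGrp (QuotientGroup.mk g : C ⧸ B)) ≤ 30 := by
      rw [Nat.card_coe_set_eq]
      have hsub : MulAction.orbit mGrp (QuotientGroup.mk g : C ⧸ B) ⊆
          Set.univ \ {(QuotientGroup.mk 1 : C ⧸ B)} := by
        intro y hy
        refine ⟨Set.mem_univ _, fun h1 => ?_⟩
        obtain ⟨m, rfl⟩ := MulAction.mem_orbit_iff.1 hy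
        rw [Set.mem_singleton_iff, ← hbase m] at h1
        exact hx (MulAction.injective m h1)
      refine (Set.ncard_le_ncard hsub (Set.toFinite _)).trans ?_
      rw [Set.ncard_sdiff_singleton_of_mem (Set.mem_univ _), Set.ncard_univ, ← Subgroup.index_eq_card,
        hidx]
    rw [e] at hle ⊢
    rcases small_index hf hcard _ hle with h | h
    · exfalso
      refine hne g hgB fun m => ?_
      exact MulAction.mem_stabilizer_iff.1 (h ▸ Subgroup.mem_top m)
    · exact h
  obtain ⟨g, hgB, hg⟩ := hex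
  -- the element normalises the subgroup
  have hc2 : Nat.card cGrp = 21799895040 := (card_facts hf hcard).1
  have hi2 : (mGrp.subgroupOf cGrp).index = 2 := by
    have h := (mGrp.subgroupOf cGrp).card_mul_index
    rw [Nat.card_congr (Subgroup.subgroupOfEquivOfLe mGrp_le_cGrp).toEquiv, (card_mGrp hf hcard).1,
      hc2] at h
    exact Nat.eq_of_mul_eq_mul_left (by norm_num) (h.trans (by norm_num))
  have hCC : ⁅cGrp, cGrp⁆ ≤ mGrp := by
    rw [Subgroup.commutator_le]
    intro x hx y hy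
    have hm : (⁅(⟨x, hx⟩ : cGrp), ⟨y, hy⟩⁆ : cGrp) ∈ mGrp.subgroupOf cGrp := by
      simp only [commutatorElement_def, Subgroup.mul_mem_iff_of_index_two hi2, inv_mem_iff]
      tauto
    exact Subgroup.mem_subgroupOf.1 hm
  set T := mGrp.map (MulAut.conj (g : J)⁻¹).toMonoidHom with hT
  have hTc : T ≤ cGrp := by
    rintro x ⟨m, hm, rfl⟩
    have h := hg ⟨m, hm⟩⁻¹
    rw [hsmul, QuotientGroup.eq, hB, Subgroup.mem_subgroupOf] at h
    simpa [hinc, mul_assoc] using h
  have hperf : ⁅mGrp, mGrp⁆ = mGrp := by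
    have h := congrArg (Subgroup.map mGrp.subtype) (commutator_top hf hcard)
    rwa [commutator_def, Subgroup.map_commutator, ← MonoidHom.range_eq_map, Subgroup.range_subtype] at h
  have hTm : T = mGrp := by
    refine Subgroup.eq_of_le_of_card_ge ?_ ?_
    · rw [hT, ← hperf, Subgroup.map_commutator, hperf]
      exact (Subgroup.commutator_mono hTc hTc).trans hCC
    · rw [hT, Subgroup.card_map_of_injective (MulEquiv.injective _)]
  have hgN : (g : J)⁻¹ ∈ Subgroup.normalizer (mGrp : Set J) := by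
    rw [Subgroup.mem_normalizer_iff]
    intro n
    constructor
    · intro hn
      rw [← hTm]
      exact ⟨n, hn, rfl⟩
    · intro hn
      rw [← hTm] at hn
      obtain ⟨m, hm, hmn⟩ := hn
      have : m = n := (MulEquiv.injective (MulAut.conj (g : J)⁻¹)) hmn
      exact this ▸ hm
  set N := (Subgroup.normalizer (mGrp : Set J)).subgroupOf C with hN
  have hBN : B ≤ N := by
    intro x hx
    rw [hN, Subgroup.mem_subgroupOf, Subgroup.mem_normalizer_iff]
    intro n
    have key : ∀ y ∈ cGrp, ∀ n ∈ mGrp, y * n * y⁻¹ ∈ mGrp := fun y hy n hn => by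
      haveI : (mGrp.subgroupOf cGrp).Normal := Subgroup.normal_of_index_eq_two hi2
      exact Subgroup.mem_subgroupOf.1 (Subgroup.Normal.conj_mem inferInstance
        (⟨n, mGrp_le_cGrp hn⟩ : cGrp) (Subgroup.mem_subgroupOf.2 hn) ⟨y, hy⟩)
    have hx' := Subgroup.mem_subgroupOf.1 hx
    refine ⟨key _ hx' n, fun h => ?_⟩
    have := key _ (inv_mem hx') _ h
    simpa [mul_assoc] using this
  have hlt : B < N := lt_of_le_of_ne hBN fun h => hgB (by
    rw [h, hN, Subgroup.mem_subgroupOf]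
    exact inv_mem_iff.1 hgN)
  have hNd : N.index ∣ 31 := hidx ▸ Subgroup.index_dvd_of_le hBN
  rcases (Nat.dvd_prime (by norm_num : Nat.Prime 31)).1 hNd with h | h
  · intro x hx
    have : (⟨x, hx⟩ : C) ∈ N := Subgroup.index_eq_one.1 h ▸ Subgroup.mem_top _
    exact Subgroup.mem_subgroupOf.1 this
  · exact absurd h (by rw [← hidx]; exact (Subgroup.index_strictAnti hlt).ne)

set_option maxHeartbeats 1000000 in
theorem not_31 : Nat.card (Subgroup.centralizer ({zz} : Set J)) ≠ 31 * 21799895040 := by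
  intro h31
  haveI : Fact (Nat.Prime 11) := ⟨by norm_num⟩
  haveI : Fact (Nat.Prime 31) := ⟨by norm_num⟩
  set C := Subgroup.centralizer ({zz} : Set J) with hC
  have hle : mGrp ≤ C := mGrp_le_cGrp.trans (cGrp_le_centralizer hf)
  set M := mGrp.subgroupOf C with hM
  haveI hMn : M.Normal := by
    refine ⟨fun n hn x => ?_⟩
    exact (Subgroup.mem_normalizer_iff.1 (normal_of_31 hf hcard h31 x.2) _).1 hn
  have hcM : Nat.card M = 10899947520 := by
    rw [Nat.card_congr (Subgroup.subgroupOfEquivOfLe hle).toEquiv, (card_mGrp hf hcard).1]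
  have hiM : M.index = 62 := by
    have h := M.card_mul_index
    rw [hcM, h31] at h
    exact Nat.eq_of_mul_eq_mul_left (by norm_num) (h.trans (by norm_num))
  set r : C := ⟨gr, hle (gr_mem_mGrp hf)⟩ with hr
  have hor : orderOf r = 11 := by rw [← Subgroup.orderOf_coe]; exact orderOf_gr hf
  set R1 := Subgroup.zpowers r with hR1
  set N1 := Subgroup.normalizer (R1 : Set C) with hN1
  -- Frattini argument
  have hsurj : Function.Surjective ((QuotientGroup.mk' M).comp N1.subtype) := by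
    intro q
    obtain ⟨x, rfl⟩ := QuotientGroup.mk'_surjective M q
    have hrM : r ∈ M := Subgroup.mem_subgroupOf.2 (gr_mem_mGrp hf)
    have hxr : x * r * x⁻¹ ∈ M := hMn.conj_mem _ hrM x
    have ho1 : orderOf (⟨r, hrM⟩ : M) = 11 := by rw [← Subgroup.orderOf_coe]; exact hor
    have ho2 : orderOf (⟨x * r * x⁻¹, hxr⟩ : M) = 11 := by
      rw [← Subgroup.orderOf_coe]
      exact (orderOf_injective (MulAut.conj x).toMonoidHom (MulEquiv.injective _) r).trans hor
    obtain ⟨m, k, hk, hmk⟩ := exists_conj_of_prime (by rw [hcM]; norm_num) ho1 ho2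
    have hmk' := congrArg Subtype.val hmk
    simp only [Subgroup.coe_mul, SubgroupClass.coe_pow, Subgroup.coe_inv] at hmk'
    set y := (m : C)⁻¹ * x with hy
    have hyr : y * r * y⁻¹ = r ^ k := by
      calc y * r * y⁻¹ = (m : C)⁻¹ * (x * r * x⁻¹) * m := by rw [hy]; group
        _ = r ^ k := by rw [hmk']; group
    have hyN : y ∈ N1 := by
      have hin : ∀ e ∈ R1, y * e * y⁻¹ ∈ R1 := by
        rintro e ⟨i, rfl⟩
        change y * r ^ i * y⁻¹ ∈ R1
        rw [← conj_zpow, hyr]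
        exact Subgroup.zpow_mem _ (Subgroup.pow_mem _ (Subgroup.mem_zpowers r) k) i
      rw [hN1, Subgroup.mem_normalizer_iff]
      intro e
      refine ⟨hin e, fun he => ?_⟩
      have hinj : Function.Injective fun e : R1 => (⟨y * e.1 * y⁻¹, hin _ e.2⟩ : R1) := fun u v h =>
        Subtype.ext (mul_left_cancel (mul_right_cancel (Subtype.mk.inj h)))
      obtain ⟨u, hu⟩ := Finite.injective_iff_surjective.1 hinj ⟨_, he⟩
      exact (mul_left_cancel (mul_right_cancel (Subtype.mk.inj hu))) ▸ u.2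
    refine ⟨⟨y, hyN⟩, ?_⟩
    change QuotientGroup.mk' M y = _
    rw [hy, map_mul, map_inv,
      show QuotientGroup.mk' M (m : C) = 1 from (QuotientGroup.eq_one_iff _).2 m.2, inv_one, one_mul]
  have h31N : 31 ∣ Nat.card N1 := by
    have h := Subgroup.card_dvd_of_surjective _ hsurj
    rw [← Subgroup.index_eq_card, hiM] at h
    exact dvd_trans (by norm_num) h
  obtain ⟨a, ha⟩ := exists_prime_orderOf_dvd_card' 31 h31N
  have hao : orderOf (a : C) = 31 := by rw [Subgroup.orderOf_coe]; exact ha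
  have hn : (a : C) * r * (a : C)⁻¹ ∈ R1 :=
    (Subgroup.mem_normalizer_iff.1 a.2 r).1 (Subgroup.mem_zpowers r)
  have hcomm : Commute (a : C) r :=
    commute_of_normalize (by norm_num) (by norm_num) (by norm_num)
      (hao ▸ pow_orderOf_eq_one _) hor hn
  have hcJ : Commute ((a : C) : J) gr := congrArg Subtype.val hcomm
  obtain ⟨g, k, hk, hak⟩ := exists_conj_of_prime (G := J) (by rw [hcard]; norm_num) (orderOf_a31 hf)
    (show orderOf ((a : C) : J) = 31 by rw [Subgroup.orderOf_coe]; exact hao)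
  set r' := g⁻¹ * gr * g with hr'
  have h31a : a31 ^ 31 = 1 := orderOf_a31 hf ▸ pow_orderOf_eq_one _
  have hr'c : Commute a31 r' := by
    obtain ⟨m, hm⟩ : ∃ m, (a31 ^ k) ^ m = a31 := by
      obtain ⟨m, -, hm⟩ := Nat.exists_mul_mod_eq_one_of_coprime
        ((Nat.coprime_comm.1 ((show Nat.Prime 31 by norm_num).coprime_iff_not_dvd.2 hk)))
        (show 1 < 31 by norm_num)
      exact ⟨m, by rw [← pow_mul, pow_eq_pow_mod _ h31a, hm, pow_one]⟩
    have hck : Commute (a31 ^ k) r' := by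
      have h := hcJ
      rw [hak] at h
      unfold Commute SemiconjBy at h ⊢
      calc a31 ^ k * (g⁻¹ * gr * g) = g⁻¹ * ((g * a31 ^ k * g⁻¹) * gr) * g := by group
        _ = g⁻¹ * (gr * (g * a31 ^ k * g⁻¹)) * g := by rw [h]
        _ = g⁻¹ * gr * g * a31 ^ k := by group
    rw [← hm]
    exact hck.pow_left m
  -- the kernel of the polynomial
  let K : AddSubgroup Vec :=
    { carrier := {v | v ᵥ* kM = 0}
      zero_mem' := Matrix.zero_vecMul _
      add_mem' := fun {u v} hu hv => by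
        change (u + v) ᵥ* kM = 0
        rw [Matrix.add_vecMul, hu, hv, add_zero]
      neg_mem' := fun {u} hu => by
        change (-u) ᵥ* kM = 0
        rw [Matrix.neg_vecMul, hu, neg_zero] }
  have hK : Nat.card (K : Set Vec) = 2 ^ 15 := card_ker_kM
  have hfr : fixCard r' ≤ 2 ^ 2 := by
    rw [hr', show g⁻¹ * gr * g = g⁻¹ * gr * g⁻¹⁻¹ by rw [inv_inv], fixCard_conj]
    exact fix_gr
  have hr11 : r' ^ 11 = 1 := by
    rw [hr', show g⁻¹ * gr * g = g⁻¹ * gr * g⁻¹⁻¹ by rw [inv_inv], conj_pow,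
      show gr ^ 11 = 1 from orderOf_gr hf ▸ pow_orderOf_eq_one _, mul_one, mul_inv_cancel]
  have hinvar : ∀ v ∈ (K : Set Vec), act v r' ∈ (K : Set Vec) := by
    intro v hv
    have hcm : Commute ((rho a31 : GL112) : Mx) ((rho r' : GL112) : Mx) := by
      unfold Commute SemiconjBy
      rw [← Units.val_mul, ← Units.val_mul, ← map_mul, ← map_mul, hr'c.eq]
    exact ker_invariant hcm hv
  have hmod := card_modEq_fix hr11 (K : Set Vec) hinvar
  rw [hK] at hmod
  obtain ⟨i, hi⟩ := exists_pow_card (fixV r' ⊓ K)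
  have hcount : Nat.card {v : Vec // v ∈ (K : Set Vec) ∧ act v r' = v} = 2 ^ i := by
    rw [← hi]
    exact Nat.card_congr (Equiv.subtypeEquivRight fun v => ⟨fun h => ⟨h.2, h.1⟩, fun h => ⟨h.2, h.1⟩⟩)
  have hi2 : 2 ^ i ≤ 2 ^ 2 := by
    rw [← hi]
    refine le_trans ?_ hfr
    refine Nat.card_le_card_of_injective (fun v => (⟨v.1, v.2.1⟩ : {v : Vec // act v r' = v})) ?_
    exact fun u v h => Subtype.ext (congrArg (fun q : {v : Vec // act v r' = v} => q.1) h)
  rw [Nat.pow_le_pow_iff_right one_lt_two] at hi2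
  rw [hcount] at hmod
  exact arith_small.2.2.2.2.2.2 i (by simp only [List.mem_cons]; omega) hmod

theorem centralizer_eq : Subgroup.centralizer ({zz} : Set J) = cGrp := by
  have hle := cGrp_le_centralizer hf
  have hc := (card_facts hf hcard).1
  refine (Subgroup.eq_of_le_of_card_ge hle (le_of_eq ?_)).symm
  obtain ⟨m, hm⟩ := Subgroup.card_dvd_of_le hle
  have hd := Subgroup.card_subgroup_dvd_card (Subgroup.centralizer ({zz} : Set J))
  rw [hm, hc, hcard] at hd
  have hmd : m ∣ 11 ^ 2 * 23 * 29 * 31 * 37 * 43 := by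
    rw [show (86775571046077562880 : ℕ) = 21799895040 * (11 ^ 2 * 23 * 29 * 31 * 37 * 43) by norm_num] at hd
    exact Nat.dvd_of_mul_dvd_mul_left (by norm_num) hd
  have hC : Nat.card (Subgroup.centralizer ({zz} : Set J)) = 21799895040 * m := by rw [hm, hc]
  obtain ⟨a29', a43', a23', a37', -, -, -⟩ := arith_small
  have hcop : ∀ {p : ℕ}, p.Prime → ¬ p ∣ Nat.card (Subgroup.centralizer ({zz} : Set J)) →
      Nat.Coprime m p := fun {p} hp h =>
    (hp.coprime_iff_not_dvd.2 fun h' => h (hC ▸ dvd_mul_of_dvd_right h' _)).symm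
  have h29 := hcop (by norm_num) (not_dvd_cent hf hcard (p := 29) (by norm_num) (by norm_num) (orderOf_a29 hf)
    (by rw [hcard]; norm_num) fix_a29 fun j hj h => a29' ⟨j, by simp; omega, h⟩)
  have h43 := hcop (by norm_num) (not_dvd_cent hf hcard (p := 43) (by norm_num) (by norm_num) (orderOf_a43 hf)
    (by rw [hcard]; norm_num) fix_a43 fun j hj h => a43' ⟨j, by simp; omega, h⟩)
  have h23 := hcop (by norm_num) (not_dvd_cent hf hcard (p := 23) (by norm_num) (by norm_num) (orderOf_eUU hf)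
    (by rw [hcard]; norm_num) fix_eUU fun j hj h => a23' ⟨j, by simp; omega, h⟩)
  have h37 := hcop (by norm_num) (not_dvd_cent hf hcard (p := 37) (by norm_num) (by norm_num) (orderOf_a37 hf)
    (by rw [hcard]; norm_num) fix_a37 fun j hj h => a37' ⟨j, by simp; omega, h⟩)
  have h11 : Nat.Coprime m 11 := by
    refine ((Nat.Prime.coprime_iff_not_dvd (by norm_num)).2 fun h' => not_dvd_121 hf hcard ?_).symm
    rw [hC]
    exact dvd_trans (by norm_num : (121 : ℕ) ∣ 11 * 11) (Nat.mul_dvd_mul (by norm_num) h')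
  have h121 : Nat.Coprime m (11 ^ 2) := Nat.Coprime.pow_right 2 h11
  have hm31 : m ∣ 31 := by
    have h1 : m ∣ 31 * (11 ^ 2 * 23 * 29 * 37 * 43) := by
      rwa [show 31 * (11 ^ 2 * 23 * 29 * 37 * 43) = 11 ^ 2 * 23 * 29 * 31 * 37 * 43 by norm_num]
    exact Nat.Coprime.dvd_of_dvd_mul_right
      (Nat.Coprime.mul_right (Nat.Coprime.mul_right (Nat.Coprime.mul_right
        (Nat.Coprime.mul_right h121 h23) h29) h37) h43) h1
  rcases (Nat.dvd_prime (by norm_num : Nat.Prime 31)).1 hm31 with h | h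
  · rw [hC, h, hc, mul_one]
  · exact absurd (hC.trans (by rw [h, mul_comm])) (not_31 hf hcard)

end Cfsg.Agent.H45.J4Inv
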